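import Groth.Agent.Curves1.Lipman.Step
import Groth.Agent.Inter.SectionDivisor
import Groth.Agent.Divisors.IdealComap
import Groth.Agent.AlgSpCartier.ClosedSub

/-!
# Vanishing and global generation over an algebraically closed field
-/

set_option autoImplicit false
set_option backward.isDefEq.respectTransparency.types false

universe u

open CategoryTheory Limits AlgebraicGeometry Coh TopologicalSpace Opposite
open Groth.EulerDeg Groth.PicAux Groth.PropsBasic.Ample

namespace Groth.Curves1.Lipman

theorem GG.of_iso {X : Scheme.{u}} {L M : X.Modules} (e : L ≅ M) (h : GG L) : GG M := fun x => by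
  obtain ⟨t, ht⟩ := h x
  exact ⟨e.hom.app ⊤ t, by rw [gloc_map e.hom]; exact ht⟩

/-- Modules on the empty scheme vanish. -/
theorem isZero_module_of_isEmpty {X : Scheme.{u}} [IsEmpty X] (M : X.Modules) : IsZero M :=
  (Groth.QCohMod.isZero_iff_stalk M).2 fun x => (IsEmpty.false x).elim

/-- A point of the support of a product lies on a factor. -/
theorem exists_mem_support_of_prod {X : Scheme.{u}} (Qs : List X.IdealSheafData) {x : X}
    (hx : x ∈ Qs.prod.support) : ∃ Q ∈ Qs, x ∈ Q.support := by
  induction Qs with
  | nil =>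
    rw [List.prod_nil, Scheme.IdealSheafData.one_eq_top, Scheme.IdealSheafData.support_top] at hx
    exact hx.elim
  | cons Q Qs ih =>
    rw [List.prod_cons, Scheme.IdealSheafData.support_mul] at hx
    rcases hx with h | h
    · exact ⟨Q, List.mem_cons_self, h⟩
    · obtain ⟨Q', h1, h2⟩ := ih h
      exact ⟨Q', List.mem_cons_of_mem _ h1, h2⟩

theorem comap_prod {X Y : Scheme.{u}} (f : X ⟶ Y) (Qs : List Y.IdealSheafData) :
    Qs.prod.comap f = (Qs.map (fun Q => Q.comap f)).prod := by
  induction Qs with
  | nil => simp
  | cons Q Qs ih => rw [List.prod_cons, List.map_cons, List.prod_cons, Groth.Divisors.comap_mul, ih]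

theorem comap_subschemeι_self {X : Scheme.{u}} (I : X.IdealSheafData) : I.comap I.subschemeι = ⊥ := by
  rw [eq_bot_iff, ← Scheme.IdealSheafData.le_map_iff_comap_le, Scheme.IdealSheafData.map_bot,
    Scheme.IdealSheafData.ker_subschemeι]

theorem list_prod_le_of_mem {X : Scheme.{u}} (Qs : List X.IdealSheafData) {Q : X.IdealSheafData}
    (h : Q ∈ Qs) : Qs.prod ≤ Q := by
  classical
  have hp : Qs.Perm (Q :: Qs.erase Q) := List.perm_cons_erase h
  rw [hp.prod_eq, List.prod_cons]
  intro U
  rw [Scheme.IdealSheafData.ideal_mul, Pi.mul_apply]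
  exact Ideal.mul_le.2 fun a ha b _ => Ideal.mul_mem_right b _ ha

/-- Restricting a closed subscheme to a larger one changes nothing. -/
theorem isIntegral_comap {X : Scheme.{u}} {R Q : X.IdealSheafData} (h : R ≤ Q)
    [IsIntegral Q.subscheme] : IsIntegral (Q.comap R.subschemeι).subscheme := by
  haveI : IsIso (pullback.snd R.subschemeι Q.subschemeι) :=
    ⟨pullback.lift (Scheme.IdealSheafData.inclusion h) (𝟙 _) (by simp), by
      rw [← cancel_mono (pullback.snd R.subschemeι Q.subschemeι), Category.assoc, pullback.lift_snd,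
        Category.comp_id, Category.id_comp], pullback.lift_snd _ _ _⟩
  let e : (Q.comap R.subschemeι).subscheme ≅ Q.subscheme :=
    Q.comapIso R.subschemeι ≪≫ asIso (pullback.snd R.subschemeι Q.subschemeι)
  haveI : Nonempty (Q.comap R.subschemeι).subscheme := ⟨e.inv (Classical.arbitrary Q.subscheme)⟩
  exact isIntegral_of_isOpenImmersion e.hom

variable (k : Type u) [Field k] [IsAlgClosed k]

/-- On an integral proper scheme over an algebraically closed field `h⁰(O) = 1`. -/
theorem finrank_h0_structure_eq_one {C : Scheme.{u}} [C.Over (Spec (CommRingCat.of k))]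
    [IsProper (C ↘ Spec (CommRingCat.of k))] [IsIntegral C] :
    Module.finrank k (HH C (structureModule C) 0) = 1 := by
  refine le_antisymm (Groth.Inter.finrank_h0_structure_le k) ?_
  haveI : Module.Finite k (HH C (structureModule C) 0) :=
    finite_HH k C (isCoh_of_isInvertible (isInvertible_structureModule C)) 0
  haveI : Nontrivial (HH C (structureModule C) 0) :=
    ⟨(h0Equiv k _).symm (oneSec C ⊤), 0, fun h => by
      have h1 : oneSec C (⊤ : C.Opens) = 0 := by
        have := congrArg (h0Equiv k (structureModule C)) h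
        rwa [LinearEquiv.apply_symm_apply, map_zero] at this
      have h2 := congrArg toFun h1
      rw [toFun_oneSec] at h2
      exact one_ne_zero (α := Γ(C, ⊤)) (h2.trans rfl)⟩
  exact Module.finrank_pos

/-- The induction on the number of integral closed subschemes needed to cover. -/
theorem good_of_list (n : ℕ) : ∀ (X : Scheme.{u}) [X.Over (Spec (CommRingCat.of k))]
    [IsProper (X ↘ Spec (CommRingCat.of k))] (_ : topologicalKrullDim X ≤ 1)
    (_ : Subsingleton (HH X (structureModule X) 1)) (L : X.Modules) (_ : PicF.IsInvertible L)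
    (_ : ∀ (C : Scheme.{u}) (i : C ⟶ X) [IsClosedImmersion i] [IsIntegral C],
      GG ((Scheme.Modules.pullback i).obj L))
    (Qs : List X.IdealSheafData), Qs.length = n → (∀ Q ∈ Qs, IsIntegral Q.subscheme) →
      Qs.prod = ⊥ → GG L ∧ Subsingleton (HH X L 1) := by
  induction n with
  | zero =>
    intro X _ _ _ _ L _ _ Qs hlen _ hprod
    obtain rfl := List.length_eq_zero_iff.1 hlen
    haveI : IsEmpty X := by
      refine ⟨fun x => ?_⟩
      have h : x ∈ (⊥ : X.IdealSheafData).support := by
        rw [Scheme.IdealSheafData.support_bot]; trivial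
      rw [← hprod, List.prod_nil, Scheme.IdealSheafData.one_eq_top, Scheme.IdealSheafData.support_top] at h
      exact h
    exact ⟨fun x => (IsEmpty.false x).elim,
      Groth.FlatMor2.StratVanish.subsingleton_HH_of_isZero (isZero_module_of_isEmpty L) 1⟩
  | succ n ih =>
    intro X _ _ hdim h1 L hL hcurve Qs hlen hint hprod
    classical
    haveI := isNoetherian_of_proper k X
    have key : ∀ Q ∈ Qs, Subsingleton (HH X L 1) ∧
        ∀ x ∈ Q.support, ∃ t : Γ(L, ⊤), x ∈ gloc t := by
      intro Q hQ
      have hperm : Qs.Perm (Q :: Qs.erase Q) := List.perm_cons_erase hQ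
      let R := (Qs.erase Q).prod
      have hQR : Q * R = ⊥ := by rw [← hprod, hperm.prod_eq, List.prod_cons]
      haveI := hint Q hQ
      letI : Q.subscheme.Over (Spec (CommRingCat.of k)) :=
        ⟨Q.subschemeι ≫ (X ↘ Spec (CommRingCat.of k))⟩
      letI : R.subscheme.Over (Spec (CommRingCat.of k)) :=
        ⟨R.subschemeι ≫ (X ↘ Spec (CommRingCat.of k))⟩
      haveI : IsProper (R.subscheme ↘ Spec (CommRingCat.of k)) :=
        inferInstanceAs (IsProper (R.subschemeι ≫ (X ↘ Spec (CommRingCat.of k))))
      haveI : IsProper (Q.subscheme ↘ Spec (CommRingCat.of k)) :=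
        inferInstanceAs (IsProper (Q.subschemeι ≫ (X ↘ Spec (CommRingCat.of k))))
      haveI := isNoetherian_of_proper k R.subscheme
      haveI := isNoetherian_of_proper k Q.subscheme
      have hdR : topologicalKrullDim R.subscheme ≤ 1 :=
        R.subschemeι.isClosedEmbedding.isInducing.topologicalKrullDim_le.trans hdim
      have hdQ : topologicalKrullDim Q.subscheme ≤ 1 :=
        Q.subschemeι.isClosedEmbedding.isInducing.topologicalKrullDim_le.trans hdim
      have h1R := subsingleton_h1_closed k hdim h1 R.subschemeι rfl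
      have h1Q := subsingleton_h1_closed k hdim h1 Q.subschemeι rfl
      obtain ⟨hggR, -⟩ := ih R.subscheme hdR h1R _ (isInvertible_pullback R.subschemeι hL)
        (fun C i _ _ => (hcurve C (i ≫ R.subschemeι)).of_iso
          ((Scheme.Modules.pullbackComp i R.subschemeι).app L).symm)
        ((Qs.erase Q).map fun Q' => Q'.comap R.subschemeι)
        (by rw [List.length_map, List.length_erase_of_mem hQ, hlen]; rfl)
        (fun Q' hQ' => by
          obtain ⟨Q'', hm, rfl⟩ := List.mem_map.1 hQ'
          haveI := hint Q'' (List.mem_of_mem_erase hm)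
          exact isIntegral_comap (list_prod_le_of_mem _ hm))
        (by rw [← comap_prod]; exact comap_subschemeι_self R)
      have hggQ : GG ((Scheme.Modules.pullback Q.subschemeι).obj L) := hcurve _ Q.subschemeι
      have hQ1 : Subsingleton (HH Q.subscheme ((Scheme.Modules.pullback Q.subschemeι).obj L) 1) := by
        have h2 := subsingleton_h1_tensor_of_gg k hdQ _ h1Q (isInvertible_pullback Q.subschemeι hL) hggQ
        obtain ⟨u, -⟩ := exists_leftUnitor ((Scheme.Modules.pullback Q.subschemeι).obj L)
        exact @Equiv.subsingleton _ _ (hEquiv k u 1).symm.toEquiv h2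
      obtain ⟨hH, hlift⟩ := step k hdim h1 hL Q.subschemeι R.subschemeι rfl rfl hdR
        (fun U => by
          rw [Scheme.IdealSheafData.ker_subschemeι, Scheme.IdealSheafData.ker_subschemeι,
            ← Pi.mul_apply Q.ideal R.ideal U, ← Scheme.IdealSheafData.ideal_mul, hQR]
          simp)
        (finrank_h0_structure_eq_one k) hQ1 hggR
      refine ⟨hH, fun x hx => ?_⟩
      rw [← SetLike.mem_coe, ← Scheme.IdealSheafData.range_subschemeι] at hx
      obtain ⟨c, rfl⟩ := hx
      obtain ⟨τ, hτ⟩ := hggQ c
      exact hlift c τ hτ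
    refine ⟨fun x => ?_, ?_⟩
    · obtain ⟨Q, hQ, hx⟩ := exists_mem_support_of_prod Qs (x := x)
        (by rw [hprod, Scheme.IdealSheafData.support_bot]; trivial)
      exact (key Q hQ).2 x hx
    · obtain ⟨Q, hQ⟩ := List.exists_mem_of_length_pos (by omega : 0 < Qs.length)
      exact (key Q hQ).1

omit [IsAlgClosed k] in
/-- Finitely many integral closed subschemes whose ideals multiply to zero. -/
theorem exists_list (X : Scheme.{u}) [IsNoetherian X] :
    ∃ Qs : List X.IdealSheafData, (∀ Q ∈ Qs, IsIntegral Q.subscheme) ∧ Qs.prod = ⊥ := by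
  classical
  obtain ⟨s, hs⟩ : ∃ s : Finset (Set X), ∀ Z, Z ∈ s ↔ Z ∈ irreducibleComponents (X : Type u) :=
    ⟨(NoetherianSpace.finite_irreducibleComponents (α := X)).toFinset, fun Z => Set.Finite.mem_toFinset _⟩
  let P : List X.IdealSheafData := s.toList.map fun Z =>
    if hZ : IsClosed Z then Scheme.IdealSheafData.vanishingIdeal ⟨Z, hZ⟩ else ⊤
  have hP : ∀ Q ∈ P, IsIntegral Q.subscheme := fun Q hQ => by
    obtain ⟨Z, hZ, rfl⟩ := List.mem_map.1 hQ
    have hZ' := (hs Z).1 (Finset.mem_toList.1 hZ)
    rw [dif_pos (isClosed_of_mem_irreducibleComponents Z hZ')]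
    set I := Scheme.IdealSheafData.vanishingIdeal (⟨Z, isClosed_of_mem_irreducibleComponents Z hZ'⟩ : Closeds X)
    haveI : IsReduced I.subscheme := Groth.AlgSpCartier.isReduced_subscheme_vanishingIdeal _
    haveI : IrreducibleSpace I.subscheme := by
      have hr : Set.range I.subschemeι = Z := by
        rw [Scheme.IdealSheafData.range_subschemeι, Scheme.IdealSheafData.coe_support_vanishingIdeal]
        rfl
      haveI : IrreducibleSpace Z := isIrreducible_iff_irreducibleSpace.1 hZ'.1
      exact (I.subschemeι.isClosedEmbedding.isEmbedding.toHomeomorph.trans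
        (Homeomorph.setCongr hr)).symm.surjective.irreducibleSpace
          (Homeomorph.continuous _)
    exact isIntegral_of_irreducibleSpace_of_isReduced I.subscheme
  have hsupp : (P.prod.support : Set X) = Set.univ := by
    refine Set.eq_univ_of_forall fun x => ?_
    have hx : irreducibleComponent x ∈ s := (hs _).2 (irreducibleComponent_mem_irreducibleComponents x)
    refine Scheme.IdealSheafData.support_antitone (list_prod_le_of_mem P
      (List.mem_map.2 ⟨_, Finset.mem_toList.2 hx, dif_pos isClosed_irreducibleComponent⟩)) ?_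
    rw [← SetLike.mem_coe, Scheme.IdealSheafData.coe_support_vanishingIdeal]
    exact mem_irreducibleComponent
  have hO := isCoh_of_isInvertible (isInvertible_structureModule X)
  obtain ⟨m, hm⟩ := Groth.CohTwo.exists_killed_pow hO P.prod (by rw [hsupp]; exact Set.subset_univ _)
  refine ⟨(List.replicate m P).flatten, fun Q hQ => ?_, ?_⟩
  · obtain ⟨l, hl, hQ⟩ := List.mem_flatten.1 hQ
    rw [List.eq_of_mem_replicate hl] at hQ
    exact hP Q hQ
  · rw [List.prod_flatten, List.map_replicate, List.prod_replicate, eq_bot_iff]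
    intro U a ha
    haveI := hO.1
    have h := hm.smul_eq_zero U.2 ha (oneSec X U.1)
    have h2 := congrArg toFun h
    rw [toFun_smul, toFun_oneSec, mul_one] at h2
    rw [Scheme.IdealSheafData.ideal_bot, Pi.bot_apply, Ideal.mem_bot]
    exact h2.trans rfl

/-- Over an algebraically closed field: nef means globally generated and without `H¹`. -/
theorem good_of_isAlgClosed (X : Scheme.{u}) [X.Over (Spec (CommRingCat.of k))]
    [IsProper (X ↘ Spec (CommRingCat.of k))] (hdim : topologicalKrullDim X ≤ 1)
    (h1 : Subsingleton (HH X (structureModule X) 1)) (L : X.Modules) (hL : PicF.IsInvertible L)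
    (hcurve : ∀ (C : Scheme.{u}) (i : C ⟶ X) [IsClosedImmersion i] [IsIntegral C],
      GG ((Scheme.Modules.pullback i).obj L)) : GG L ∧ Subsingleton (HH X L 1) := by
  haveI := isNoetherian_of_proper k X
  obtain ⟨Qs, hint, hprod⟩ := exists_list X
  exact good_of_list k _ X hdim h1 L hL hcurve Qs rfl hint hprod

end Groth.Curves1.Lipman
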