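import Mathlib
import Groth.Agent.Curves1.RR.GlobGen
import Groth.Agent.CohTwo.AmpleTwoPieces
import Groth.Agent.CohC3.GenSections
import Groth.Agent.AmpleFinite.Main
import Groth.Agent.VBCurves.Duality
import Groth.Agent.CohC3.ProperSupport
import Groth.Agent.DegMono.Torsion

/-!
# `H¹` on proper schemes of dimension at most one over a field

Right exactness of `H¹`, vanishing for twists of modules without `H¹` by globally generated modules,
and the splitting step along two closed subschemes whose ideals multiply to zero.
-/

set_option autoImplicit false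
set_option backward.isDefEq.respectTransparency.types false

universe u

open CategoryTheory Limits AlgebraicGeometry Coh TopologicalSpace Opposite
open Groth.EulerDeg Groth.PicAux Groth.PropsBasic.Ample

namespace Groth.Curves1.Lipman

variable (k : Type u) [Field k]

/-- Every point has a global section of `L` generating there. -/
def GG {X : Scheme.{u}} (L : X.Modules) : Prop := ∀ x : X, ∃ t : Γ(L, ⊤), x ∈ gloc t

theorem GG.isGloballyGenerated {X : Scheme.{u}} {L : X.Modules} (h : GG L) :
    Curv2.IsGloballyGenerated L :=
  Groth.Chow.isGloballyGenerated_of_cover (id : Γ(L, ⊤) → Γ(L, ⊤))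
    (eq_top_iff.2 fun x _ => Opens.mem_iSup.2 (h x))

theorem GG.pullback {X Y : Scheme.{u}} (g : Y ⟶ X) {L : X.Modules} (hL : PicF.IsInvertible L)
    (h : GG L) : GG ((Scheme.Modules.pullback g).obj L) := fun y => by
  obtain ⟨t, ht⟩ := h (g y)
  exact ⟨pullSec g L t, by rw [Groth.AmpleFinite.gloc_pullSec g hL]; exact ht⟩

section Field

variable {X : Scheme.{u}} [X.Over (Spec (CommRingCat.of k))] [NoetherianSpace X]
  (hdim : topologicalKrullDim X ≤ 1)

include k hdim in
/-- `H¹` is right exact. -/
theorem subsingleton_h1_of_epi {M N : X.Modules} (φ : M ⟶ N) [Epi φ]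
    (h : Subsingleton (HH X M 1)) : Subsingleton (HH X N 1) := by
  have hS : (ShortComplex.mk (kernel.ι φ) φ (kernel.condition φ)).ShortExact :=
    { exact := ShortComplex.exact_of_f_is_kernel _ (kernelIsKernel φ)
      mono_f := inferInstanceAs (Mono (kernel.ι φ))
      epi_g := inferInstanceAs (Epi φ) }
  have := subsingleton_HH_of_dim_le_one X hdim (kernel φ) 2 le_rfl
  refine subsingleton_of_forall_eq 0 fun y => ?_
  obtain ⟨z, rfl⟩ := (exact_right k hS 1 y).1 (Subsingleton.elim _ _)
  rw [Subsingleton.elim z 0, map_zero]

include k in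
/-- Finite powers of a module without `H¹`, tensored, have no `H¹`. -/
theorem subsingleton_h1_tensor_pw (G : X.Modules) (h : Subsingleton (HH X G 1)) (n : ℕ) :
    Subsingleton (HH X ((DCoh.tensorRightMod G).obj (Groth.CohC3.pw n (structureModule X))) 1) := by
  let F := DCoh.tensorRightMod G
  obtain ⟨e, -⟩ := exists_leftUnitor G
  haveI h1 : Subsingleton (HH X (F.obj (structureModule X)) 1) :=
    (hEquiv k (X := X) (show F.obj (structureModule X) ≅ G from e) 1).toEquiv.subsingleton
  refine subsingleton_of_forall_eq 0 fun z => ?_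
  have hid : 𝟙 (F.obj (Groth.CohC3.pw n (structureModule X))) =
      ∑ i : Fin n, F.map (biproduct.π _ i) ≫ F.map (biproduct.ι (fun _ : Fin n => structureModule X) i) := by
    simp_rw [← F.map_comp]
    rw [← Functor.map_sum, biproduct.total, F.map_id]
  have h2 := congrArg (fun φ => hMap k φ 1 z) hid
  rw [Groth.VBCurves.hMap_sum] at h2
  rw [hMap_id, LinearMap.id_apply, LinearMap.sum_apply] at h2
  rw [h2]
  refine Finset.sum_eq_zero fun i _ => ?_
  rw [hMap_comp, LinearMap.comp_apply,
    Subsingleton.elim (hMap k (F.map (biproduct.π _ i)) 1 z) 0, map_zero]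

include k hdim in
/-- Twisting by a globally generated invertible module preserves vanishing of `H¹`. -/
theorem subsingleton_h1_tensor_of_gg [IsNoetherian X] (G : X.Modules) (h : Subsingleton (HH X G 1))
    {L : X.Modules} (hL : PicF.IsInvertible L) (hg : GG L) :
    Subsingleton (HH X (CohB1.tensorMod G L) 1) := by
  obtain ⟨T, hT⟩ := Groth.CohC3.exists_epi_secHom (isCoh_of_isInvertible hL) hg.isGloballyGenerated
  have h0 : Subsingleton (HH X (CohB1.tensorMod G (Groth.CohC3.pw T.card (structureModule X))) 1) := by
    obtain ⟨b, -⟩ := exists_braiding G (Groth.CohC3.pw T.card (structureModule X))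
    exact @Equiv.subsingleton _ _ (hEquiv k b 1).toEquiv (subsingleton_h1_tensor_pw k G h T.card)
  haveI := Groth.DegMono.epi_tensorMap G (Groth.CohC3.secHom T)
  exact subsingleton_h1_of_epi k hdim (KoszTw.tensorMap (𝟙 G) (Groth.CohC3.secHom T)) h0

end Field

end Groth.Curves1.Lipman
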