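import Groth.Agent.Curves1.Lipman.VeryAmple
import Groth.Agent.PnCoh.OverAffine
import Groth.Agent.VBCurves.H0Bound

/-!
# Lipman's criterion over a field
-/

set_option autoImplicit false
set_option backward.isDefEq.respectTransparency.types false

universe u

open CategoryTheory Limits AlgebraicGeometry Coh TopologicalSpace Opposite
open Groth.EulerDeg Groth.PicAux Groth.PropsBasic.Ample

namespace Groth.Curves1.Lipman

variable (k : Type u) [Field k] {X : Scheme.{u}} [X.Over (Spec (CommRingCat.of k))]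
  [IsProper (X ↘ Spec (CommRingCat.of k))] (hdim : topologicalKrullDim X ≤ 1)

include k hdim in
theorem dim_fiber_le_one (y : ↥(Spec (CommRingCat.of k))) :
    topologicalKrullDim ↥((X ↘ Spec (CommRingCat.of k)).fiber y) ≤ 1 := by
  rw [dim_fiber_field]; exact hdim

include k hdim in
/-- Nonnegative degree on the integral curves: global generation and no `H¹`. -/
theorem gg_and_subsingleton_h1_field (h1 : Subsingleton (HH X (structureModule X) 1))
    (L : X.Modules) (hL : PicF.IsInvertible L)
    (hnef : ∀ J : X.IdealSheafData, IsIntegral J.subscheme → topologicalKrullDim J.subscheme = 1 →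
      0 ≤ @Curv2.deg k _ J.subscheme ⟨J.subschemeι ≫ (X ↘ (Spec (CommRingCat.of k)))⟩
        ((Scheme.Modules.pullback J.subschemeι).obj L) 1) :
    GG L ∧ Subsingleton (HH X L 1) := by
  refine gg_and_subsingleton_h1_of_curves k X (X ↘ Spec (CommRingCat.of k)) h1
    (dim_fiber_le_one k hdim) L hL fun κ _ _ _ J t hJ _ => ?_
  haveI := hJ
  haveI := isNoetherian_of_proper k X
  letI : J.subscheme.Over (Spec (CommRingCat.of k)) :=
    ⟨J.subschemeι ≫ (X ↘ Spec (CommRingCat.of k))⟩
  haveI : IsProper (J.subscheme ↘ Spec (CommRingCat.of k)) :=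
    inferInstanceAs (IsProper (J.subschemeι ≫ (X ↘ Spec (CommRingCat.of k))))
  exact gg_of_deg_nonneg k (J.subschemeι.isClosedEmbedding.isInducing.topologicalKrullDim_le.trans hdim)
    (subsingleton_h1_closed k hdim h1 J.subschemeι rfl) (isInvertible_pullback _ hL) fun hd1 => hnef J hJ hd1

/-- An ample module has positive degree on every integral curve. -/
theorem deg_pos_of_isAmple {L : X.Modules} (hA : CohB1.IsAmple L) (J : X.IdealSheafData)
    (hJ : IsIntegral J.subscheme) (hd : topologicalKrullDim J.subscheme = 1) :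
    0 < @Curv2.deg k _ J.subscheme ⟨J.subschemeι ≫ (X ↘ (Spec (CommRingCat.of k)))⟩
        ((Scheme.Modules.pullback J.subschemeι).obj L) 1 := by
  letI : J.subscheme.Over (Spec (CommRingCat.of k)) :=
    ⟨J.subschemeι ≫ (X ↘ Spec (CommRingCat.of k))⟩
  haveI : IsProper (J.subscheme ↘ Spec (CommRingCat.of k)) :=
    inferInstanceAs (IsProper (J.subschemeι ≫ (X ↘ Spec (CommRingCat.of k))))
  exact (Groth.VarietyBC.CurveDeg.isAmple_iff_deg_pos k hd (isInvertible_pullback J.subschemeι hA.1)).1
    (Groth.Chow.isAmple_pullback_of_isAffineHom _ hA)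

include k hdim in
/-- Ample: global generation and no `H¹`. -/
theorem gg_and_subsingleton_h1_of_isAmple (h1 : Subsingleton (HH X (structureModule X) 1))
    {L : X.Modules} (hA : CohB1.IsAmple L) : GG L ∧ Subsingleton (HH X L 1) :=
  gg_and_subsingleton_h1_field k hdim h1 L hA.1 fun J hJ hd => (deg_pos_of_isAmple k hA J hJ hd).le

include k hdim in
/-- Ample is very ample. -/
theorem exists_closedImmersion_of_isAmple (h1 : Subsingleton (HH X (structureModule X) 1))
    {L : X.Modules} (hA : CohB1.IsAmple L) :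
    ∃ (n : ℕ) (i : X ⟶ CohB1.ProjSpace n k), IsClosedImmersion i ∧
      i ≫ CohB1.ProjSpace.toSpec n k = X ↘ (Spec (CommRingCat.of k)) ∧
      Nonempty ((Scheme.Modules.pullback i).obj (Twist.twistProjSpace n k 1) ≅ L) := by
  obtain ⟨n, j, hj, hjf, ⟨e⟩⟩ := isRelVeryAmplePn_of_isAmple k X (X ↘ Spec (CommRingCat.of k)) h1
    (dim_fiber_le_one k hdim) L hA
  let φ := Groth.PnCoh.overIso n k
  obtain ⟨τ⟩ := Groth.PnCoh.nonempty_pullback_overIso_twist n k 1
  let i := j ≫ φ.inv
  have hi : i ≫ CohB1.ProjSpace.toSpec n k = X ↘ (Spec (CommRingCat.of k)) := by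
    have hb := congrArg (j ≫ φ.inv ≫ ·) (Groth.PnCoh.overIso_hom_toBase n k)
    simp only [φ, Iso.inv_hom_id_assoc] at hb
    rw [Category.assoc]
    exact hb.symm.trans hjf
  haveI : IsProper (i ≫ CohB1.ProjSpace.toSpec n k) := by rw [hi]; infer_instance
  haveI : IsImmersion i := inferInstance
  haveI : IsProper i := IsProper.of_comp i (CohB1.ProjSpace.toSpec n k)
  refine ⟨n, i, IsClosedImmersion.of_isPreimmersion i i.isClosedMap.isClosed_range, hi, ⟨?_⟩⟩
  exact (Scheme.Modules.pullback i).mapIso τ.symm ≪≫ (Scheme.Modules.pullbackComp i φ.hom).app _ ≪≫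
    (Scheme.Modules.pullbackCongr (show i ≫ φ.hom = j by simp [i])).app _ ≪≫ e.symm

include k hdim in
/-- Products of sections of an ample module span. -/
theorem span_tmul_eq_top_of_isAmple (h1 : Subsingleton (HH X (structureModule X) 1))
    {L : X.Modules} (hA : CohB1.IsAmple L) (n : ℕ)
    (z : Γ(CohB1.tensorMod (CohB1.tensorPow L n) L, ⊤)) :
    ∃ (N : ℕ) (c : Fin N → Γ(CohB1.tensorPow L n, ⊤)) (s : Fin N → Γ(L, ⊤)),
      z = ∑ i, tmulSec (c i) (s i) := by
  classical
  obtain ⟨hgg, -⟩ := gg_and_subsingleton_h1_of_isAmple k hdim h1 hA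
  haveI : CompactSpace X := QuasiCompact.compactSpace_of_compactSpace (X ↘ Spec (CommRingCat.of k))
  choose t ht using hgg
  obtain ⟨F, hF⟩ := isCompact_univ.elim_finite_subcover (fun x => (gloc (t x) : Set X))
    (fun x => (gloc (t x)).isOpen) (fun x _ => Set.mem_iUnion.2 ⟨x, ht x⟩)
  obtain ⟨T, hT⟩ := exists_generators k hA.1
  let U : Finset Γ(L, ⊤) := T ∪ F.image t
  let s : Fin U.card → Γ(L, ⊤) := fun i => (U.equivFin.symm i).1
  have hgen : ∀ τ : Γ(L, ⊤), ∃ a : Fin U.card → k, τ = ∑ i, cst k X (a i) • s i := fun τ => by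
    obtain ⟨a, ha⟩ := hT τ
    refine ⟨fun i => if (U.equivFin.symm i).1 ∈ T then a (U.equivFin.symm i).1 else 0, ?_⟩
    simp only [s]
    rw [← Equiv.sum_comp U.equivFin, ha]
    simp only [Equiv.symm_apply_apply]
    rw [Finset.univ_eq_attach, Finset.sum_attach U fun x => cst k X (if x ∈ T then a x else 0) • x]
    refine (Finset.sum_congr rfl fun x hx => by rw [if_pos hx]).trans
      (Finset.sum_subset Finset.subset_union_left fun x _ hx => ?_)
    rw [if_neg hx, cst, map_zero]
    exact zero_smul _ x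
  have hcov : ∀ x : X, ∃ i, x ∈ gloc (s i) := fun x => by
    obtain ⟨y, hy, hxy⟩ := Set.mem_iUnion₂.1 (hF (Set.mem_univ x))
    refine ⟨U.equivFin ⟨t y, Finset.mem_union_right _ (Finset.mem_image_of_mem t hy)⟩, ?_⟩
    simpa [s] using hxy
  obtain ⟨β, hβ⟩ := exists_braiding L (CohB1.tensorPow L n)
  have hgn : GG (CohB1.tensorPow L n) := fun x => by
    rcases Nat.eq_zero_or_pos n with rfl | hn
    · exact ⟨oneSec X ⊤, le_gloc (V := ⊤) (by rw [res_self]; exact gen_oneSec ⊤) trivial⟩
    · exact ⟨powSec (t x) n, by rw [gloc_powSec hA.1 (t x) hn]; exact ht x⟩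
  obtain ⟨c, hc⟩ := exists_tmul_decomp k (dim_fiber_le_one k hdim) hA.1 (isInvertible_tensorPow hA.1 n)
    h1 hgn s hgen hcov (β.inv.app ⊤ z)
  refine ⟨U.card, c, s, ?_⟩
  have h := congrArg (β.hom.app ⊤) hc
  rw [map_sum] at h
  refine ((congr(($(β.inv_hom_id)).app ⊤ z)).symm.trans h).trans ?_
  exact Finset.sum_congr rfl fun i _ => hβ _ _ _

/-- An epimorphism from `O` onto a module with one-dimensional `H⁰` is surjective on `H⁰`. -/
theorem surjective_h0_of_finrank_one {M : X.Modules} (η : structureModule X ⟶ M) [Epi η]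
    (e0 : Module.finrank k (HH X M 0) = 1) : Function.Surjective (hMap k η 0) := by
  have hne : hMap k η 0 ≠ 0 := fun h0 => by
    have hη0 : η = 0 := hom_structure_ext (by
      have h := Groth.Curves1.RR.h0Equiv_hMap k η ((h0Equiv k _).symm (oneSec X ⊤))
      rw [h0, LinearMap.zero_apply, map_zero, LinearEquiv.apply_symm_apply] at h
      exact h.symm)
    have hz : IsZero M :=
      (IsZero.iff_id_eq_zero _).2 ((cancel_epi η).1 (by rw [Category.comp_id, comp_zero, hη0]))
    have := Groth.FlatMor2.StratVanish.subsingleton_HH_of_isZero hz 0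
    rw [Module.finrank_zero_of_subsingleton] at e0
    exact zero_ne_one e0
  obtain ⟨v, hv⟩ : ∃ v, hMap k η 0 v ≠ 0 := by
    by_contra hh
    push Not at hh
    exact hne (LinearMap.ext hh)
  intro y
  obtain ⟨c, hc⟩ := (finrank_eq_one_iff_of_nonzero' _ hv).1 e0 y
  exact ⟨c • v, by rw [map_smul, hc]⟩

include k hdim in
/-- Quotients of free modules have no `H¹`. -/
theorem subsingleton_h1_of_isGloballyGenerated (h1 : Subsingleton (HH X (structureModule X) 1))
    {E : X.Modules} (hgg : Curv2.IsGloballyGenerated E) : Subsingleton (HH X E 1) := by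
  haveI := isNoetherian_of_proper k X
  obtain ⟨ι, p, hp⟩ := hgg
  let p' : (∐ fun _ : ι => structureModule X) ⟶ E := p
  haveI : Epi p' := hp
  exact subsingleton_h1_of_epi k hdim p' (subsingleton_h1_coproduct h1)

/-- The ideal of a closed point with residue field `k` has no `H¹`. -/
theorem subsingleton_h1_pointIdeal [IsAlgClosed k] (h1 : Subsingleton (HH X (structureModule X) 1))
    (p : X) (hp : IsClosed ({p} : Set X)) :
    Subsingleton (HH X (ClSub.idealMod (Scheme.IdealSheafData.vanishingIdeal (⟨{p}, hp⟩ : Closeds X))) 1) := by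
  haveI := isNoetherian_of_proper k X
  set I := Scheme.IdealSheafData.vanishingIdeal (⟨{p}, hp⟩ : Closeds X)
  letI : I.subscheme.Over (Spec (CommRingCat.of k)) := ⟨I.subschemeι ≫ (X ↘ Spec (CommRingCat.of k))⟩
  haveI : IsProper (I.subscheme ↘ Spec (CommRingCat.of k)) :=
    inferInstanceAs (IsProper (I.subschemeι ≫ (X ↘ Spec (CommRingCat.of k))))
  haveI : IsReduced I.subscheme := Groth.AlgSpCartier.isReduced_subscheme_vanishingIdeal _
  haveI : IrreducibleSpace I.subscheme := by
    have hr : Set.range I.subschemeι = {p} := by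
      rw [Scheme.IdealSheafData.range_subschemeι, Scheme.IdealSheafData.coe_support_vanishingIdeal]
      rfl
    haveI : IrreducibleSpace ({p} : Set X) :=
      isIrreducible_iff_irreducibleSpace.1 isIrreducible_singleton
    exact (I.subschemeι.isClosedEmbedding.isEmbedding.toHomeomorph.trans
      (Homeomorph.setCongr hr)).symm.surjective.irreducibleSpace (Homeomorph.continuous _)
  haveI : IsIntegral I.subscheme := isIntegral_of_irreducibleSpace_of_isReduced I.subscheme
  obtain ⟨e⟩ := Groth.CohC3.nonempty_linearEquiv_push_closed I.subschemeι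
    (X ↘ Spec (CommRingCat.of k)) 0 (structureModule I.subscheme)
  have e0 : Module.finrank k (HH X (ClSub.quotMod I) 0) = 1 :=
    e.finrank_eq.trans (finrank_h0_structure_eq_one k (C := I.subscheme))
  have hS := shortExact_idealMod I
  haveI : Epi (ClSub.toSubscheme I) := hS.epi_g
  have hg := surjective_h0_of_finrank_one k (ClSub.toSubscheme I) e0
  refine subsingleton_of_forall_eq 0 fun z => ?_
  obtain ⟨d, rfl⟩ := (exact_left k hS 0 z).1 (@Subsingleton.elim _ h1 _ _)
  exact (exact_right k hS 0 d).2 (hg d)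

include k hdim in
/-- Globally generated twists keep `H¹ = 0`. -/
theorem subsingleton_h1_gg_tensor {E : X.Modules} (hE : FlatMod.IsFinLocFree E)
    (hgg : Curv2.IsGloballyGenerated E) (G : X.Modules) (hG : Subsingleton (HH X G 1)) :
    Subsingleton (HH X (CohB1.tensorMod E G) 1) := by
  haveI := isNoetherian_of_proper k X
  obtain ⟨T, hT⟩ := Groth.CohC3.exists_epi_secHom (Groth.KTheory.LocFree.isCoh hE) hgg
  obtain ⟨b, -⟩ := exists_braiding G (Groth.CohC3.pw T.card (structureModule X))
  have h0 : Subsingleton (HH X (CohB1.tensorMod G (Groth.CohC3.pw T.card (structureModule X))) 1) :=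
    @Equiv.subsingleton _ _ (hEquiv k b 1).toEquiv (subsingleton_h1_tensor_pw k G hG T.card)
  haveI := Groth.DegMono.epi_tensorMap G (Groth.CohC3.secHom T)
  have h := subsingleton_h1_of_epi k hdim (KoszTw.tensorMap (𝟙 G) (Groth.CohC3.secHom T)) h0
  obtain ⟨b', -⟩ := exists_braiding E G
  exact @Equiv.subsingleton _ _ (hEquiv k b' 1).toEquiv h

end Groth.Curves1.Lipman
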