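import Groth.Agent.Curves1.Lipman.Field
import Groth.Agent.Limits.CurveMult

/-!
# Relations among covering sections are Koszul
-/

set_option autoImplicit false
set_option backward.isDefEq.respectTransparency.types false

universe u

open CategoryTheory Limits AlgebraicGeometry Coh TopologicalSpace Opposite
open Groth.EulerDeg Groth.PicAux Groth.PropsBasic.Ample

namespace Groth.Curves1.Lipman

variable {X : Scheme.{u}} [IsLocallyNoetherian X] {L : X.Modules}

omit [IsLocallyNoetherian X] in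
theorem res_sub' {M : X.Modules} {U V : X.Opens} (h : V ≤ U) (x y : Γ(M, U)) :
    res M h (x - y) = res M h x - res M h y :=
  map_sub _ _ _

set_option maxHeartbeats 1600000 in
/-- The twisted relations among covering sections are generated by the Koszul relations. -/
theorem exists_epi_koszul (hL : PicF.IsInvertible L) {N : ℕ} (s : Fin N → Γ(L, ⊤))
    (hcov : ∀ x : X, ∃ i, x ∈ gloc (s i))
    (φ : Groth.CohC3.pw N (structureModule X) ⟶ L)
    (hφ : ∀ i, biproduct.ι (fun _ : Fin N => structureModule X) i ≫ φ = homOfSection (s i))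
    [Epi φ] :
    ∃ ψ : Groth.CohC3.pw (N * N) (structureModule X) ⟶ CohB1.tensorMod (kernel φ) L, Epi ψ := by
  let O := structureModule X
  let P := Groth.CohC3.pw N O
  haveI : L.IsQuasicoherent := isQCoh_of_isInvertible hL
  haveI : P.IsQuasicoherent :=
    (Groth.CohC3.isCoh_pw N (isCoh_of_isInvertible (isInvertible_structureModule X))).1
  haveI : (kernel φ).IsQuasicoherent := Groth.QCohMod.isQCoh_kernel φ
  haveI : (CohB1.tensorMod (kernel φ) L).IsQuasicoherent := Groth.QCohMod.isQCoh_tensorMod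
  have hS : (ShortComplex.mk (kernel.ι φ) φ (kernel.condition φ)).ShortExact :=
    { exact := ShortComplex.exact_of_f_is_kernel _ (kernelIsKernel φ)
      mono_f := inferInstanceAs (Mono (kernel.ι φ))
      epi_g := inferInstanceAs (Epi φ) }
  have hT := shortExact_tensorRightMod hL hS
  let m : CohB1.tensorMod (kernel φ) L ⟶ CohB1.tensorMod P L := KoszTw.tensorMap (kernel.ι φ) (𝟙 L)
  let q : CohB1.tensorMod P L ⟶ CohB1.tensorMod L L := KoszTw.tensorMap φ (𝟙 L)
  have hmq : m ≫ q = 0 := by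
    have h := (ShortComplex.mk (kernel.ι φ) φ (kernel.condition φ)).map (DCoh.tensorRightMod L) |>.zero
    simp only [ShortComplex.map_f, ShortComplex.map_g, KoszTw.tensorRightMod_map] at h
    exact h
  haveI hm : Mono m := by
    have h := hT.mono_f
    simp only [ShortComplex.map_f, KoszTw.tensorRightMod_map] at h
    exact h
  have hex : (ShortComplex.mk m q hmq).Exact := by
    have h := hT.exact
    have key : ∀ (f : CohB1.tensorMod (kernel φ) L ⟶ CohB1.tensorMod P L)
        (g : CohB1.tensorMod P L ⟶ CohB1.tensorMod L L) (hf : f = m) (hg : g = q) (hw : f ≫ g = 0),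
        (ShortComplex.mk f g hw).Exact → (ShortComplex.mk m q hmq).Exact := by
      rintro _ _ rfl rfl hw h'
      exact h'
    exact key _ _ (KoszTw.tensorRightMod_map _ _) (KoszTw.tensorRightMod_map _ _) _ h
  let ε : Fin N → Γ(P, ⊤) := fun i => (biproduct.ι (fun _ : Fin N => O) i).app ⊤ (oneSec X ⊤)
  have hε : ∀ i, φ.app ⊤ (ε i) = s i := fun i => by
    have h := congr(($(hφ i)).app ⊤ (oneSec X ⊤))
    rw [homOfSection_one] at h
    exact h
  let ρ : Fin (N * N) → Γ(CohB1.tensorMod P L, ⊤) := fun p =>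
    tmulSec (ε (finProdFinEquiv.symm p).1) (s (finProdFinEquiv.symm p).2) -
      tmulSec (ε (finProdFinEquiv.symm p).2) (s (finProdFinEquiv.symm p).1)
  let ψ₀ : Groth.CohC3.pw (N * N) O ⟶ CohB1.tensorMod P L :=
    biproduct.desc fun p => homOfSection (ρ p)
  have hqt : ∀ (U : X.Opens) (a : Γ(P, U)) (b : Γ(L, U)),
      q.app U (tmulSec a b) = tmulSec (φ.app U a) b := fun U a b => KoszTw.tensorMap_tmul φ (𝟙 L) U a b
  have hψ₀ : ψ₀ ≫ q = 0 := by
    refine biproduct.hom_ext' _ _ fun p => ?_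
    rw [biproduct.ι_desc_assoc, comp_zero]
    refine hom_structure_ext ?_
    rw [Scheme.Modules.Hom.comp_app, ConcreteCategory.comp_apply, homOfSection_one]
    refine (map_sub (q.app ⊤).hom _ _).trans ?_
    erw [hqt, hqt, hε, hε]
    rw [Groth.LimCurveMult.tmulSec_comm hL, sub_self]
    rfl
  haveI : Mono (ShortComplex.mk m q hmq).f := hm
  let ψ : Groth.CohC3.pw (N * N) O ⟶ CohB1.tensorMod (kernel φ) L := hex.lift ψ₀ hψ₀
  have hψ : ψ ≫ m = ψ₀ := hex.lift_f ψ₀ hψ₀
  refine ⟨ψ, Groth.OmegaSheaf.epi_of_affine_cover ψ fun x => ?_⟩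
  obtain ⟨a, ha⟩ := hcov x
  obtain ⟨U, hU, hxU, hUa⟩ := exists_isAffineOpen_mem_and_subset (x := x) (U := gloc (s a)) ha
  refine ⟨U, hU, hxU, fun w => ?_⟩
  let σ : Γ(L, U) := res L le_top (s a)
  have hσ : Gen L U σ := gen_gloc (s a) hUa
  let w' := m.app U w
  have hqw : q.app U w' = 0 := by
    have h := congr(($hmq).app U w)
    exact h.trans rfl
  -- coordinates
  obtain ⟨u, hu⟩ := exists_leftUnitor L
  let b : Fin N → Γ(L, U) := fun i =>
    u.hom.app U ((KoszTw.tensorMap (biproduct.π (fun _ : Fin N => O) i) (𝟙 L)).app U w')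
  have hdec : w' = ∑ i, tmulSec (res P le_top (ε i)) (b i) := by
    have hone : ∀ y : Γ(CohB1.tensorMod O L, U), y = tmulSec (oneSec X U) (u.hom.app U y) := fun y => by
      apply (ConcreteCategory.bijective_of_isIso (u.hom.app U)).1
      rw [hu, toFun_oneSec, one_smul]
    let ev : (CohB1.tensorMod P L ⟶ CohB1.tensorMod P L) →+ Γ(CohB1.tensorMod P L, U) :=
      AddMonoidHom.mk' (fun θ => θ.app U w') fun a b => by
        rw [Scheme.Modules.Hom.add_app]; rfl
    have h1 := congrArg ev (sum_tensorMap_biproduct L (N := N) (X := X))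
    rw [map_sum] at h1
    refine (show w' = ev (𝟙 _) from rfl).trans (h1.trans (Finset.sum_congr rfl fun i _ => ?_))
    show (KoszTw.tensorMap (biproduct.ι (fun _ : Fin N => O) i) (𝟙 L)).app U
      ((KoszTw.tensorMap (biproduct.π (fun _ : Fin N => O) i) (𝟙 L)).app U w') = _
    refine (congrArg ((KoszTw.tensorMap (biproduct.ι (fun _ : Fin N => O) i) (𝟙 L)).app U) (hone _)).trans ?_
    refine (KoszTw.tensorMap_tmul (biproduct.ι (fun _ : Fin N => O) i) (𝟙 L) U _ _).trans ?_
    rw [← res_oneSec (le_top : U ≤ ⊤), app_res]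
    rfl
  choose c hc using fun i => hσ.exists_coeff le_rfl (b i)
  choose d hd using fun i => hσ.exists_coeff le_rfl (res L le_top (s i))
  simp only [res_self] at hc hd
  have hsum : ∑ i, c i * d i = 0 := by
    refine (hσ.tensor hσ).smul_inj le_rfl ?_
    rw [res_self, zero_smul, Finset.sum_smul, ← hqw, hdec, map_sum]
    refine Finset.sum_congr rfl fun i _ => ?_
    erw [hqt]
    have he : φ.app U (res P le_top (ε i)) = res L le_top (s i) :=
      (app_res φ le_top (ε i)).trans (congrArg _ (hε i))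
    erw [he]
    rw [hc i, hd i, tmulSec_smul_left, tmulSec_smul_right, mul_comm, mul_smul]
  let v : Γ(Groth.CohC3.pw (N * N) O, U) := ∑ i, c i •
    (biproduct.ι (fun _ : Fin (N * N) => O) (finProdFinEquiv (i, a))).app U (oneSec X U)
  refine ⟨v, Groth.QCohMod.app_injective_of_mono m U ?_⟩
  have h2 : m.app U (ψ.app U v) = ψ₀.app U v := congr(($hψ).app U v)
  refine h2.trans ?_
  show ψ₀.app U v = w'
  rw [map_sum]
  have hterm : ∀ i, ψ₀.app U (c i • (biproduct.ι (fun _ : Fin (N * N) => O) (finProdFinEquiv (i, a))).app U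
      (oneSec X U)) = tmulSec (res P le_top (ε i)) (b i) - (c i * d i) • tmulSec (res P le_top (ε a)) σ := by
    intro i
    rw [Scheme.Modules.Hom.app_smul]
    have h3 : ψ₀.app U ((biproduct.ι (fun _ : Fin (N * N) => O) (finProdFinEquiv (i, a))).app U (oneSec X U)) =
        res _ (le_top : U ≤ ⊤) (ρ (finProdFinEquiv (i, a))) := by
      rw [← res_oneSec (le_top : U ≤ ⊤), app_res, app_res]
      congr 1
      have h := congr(($(biproduct.ι_desc (fun p => homOfSection (ρ p)) (finProdFinEquiv (i, a)))).app ⊤ (oneSec X ⊤))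
      rw [homOfSection_one] at h
      exact h
    rw [h3]
    simp only [ρ, Equiv.symm_apply_apply]
    rw [res_sub' le_top, res_tmulSec, res_tmulSec, smul_sub, hd i, hc i, ← tmulSec_smul_right,
      tmulSec_smul_right (r := d i), smul_smul]
  rw [Finset.sum_congr rfl fun i _ => hterm i, Finset.sum_sub_distrib, ← Finset.sum_smul, hsum,
    zero_smul, sub_zero, hdec]

section Field

variable (k : Type u) [Field k] {Z : Scheme.{u}} [Z.Over (Spec (CommRingCat.of k))]
  [IsProper (Z ↘ Spec (CommRingCat.of k))] (hdim : topologicalKrullDim Z ≤ 1)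

include k hdim in
/-- Products span in degrees above a degree without `H¹`. -/
theorem span_tmul_eq_top_of_h1_pow {A : Z.Modules} (hA : PicF.IsInvertible A) (hgg : GG A) (m : ℕ)
    (hm : Subsingleton (HH Z (CohB1.tensorPow A m) 1)) (n : ℕ) (hn : m + 1 ≤ n)
    (z : Γ(CohB1.tensorMod (CohB1.tensorPow A n) A, ⊤)) :
    ∃ (N : ℕ) (c : Fin N → Γ(CohB1.tensorPow A n, ⊤)) (s : Fin N → Γ(A, ⊤)),
      z = ∑ i, tmulSec (c i) (s i) := by
  classical
  haveI := isNoetherian_of_proper k Z
  obtain ⟨j, rfl⟩ := Nat.exists_eq_add_of_le hn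
  -- no `H¹` in degree `m + j`
  have hpow : ∀ l : ℕ, Subsingleton (HH Z (CohB1.tensorPow A (m + l)) 1) := fun l => by
    induction l with
    | zero => exact hm
    | succ l ih => exact subsingleton_h1_tensor_of_gg k hdim _ ih hA hgg
  have hmj := hpow j
  choose t ht using hgg
  obtain ⟨F, hF⟩ := isCompact_univ.elim_finite_subcover (fun x => (gloc (t x) : Set Z))
    (fun x => (gloc (t x)).isOpen) (fun x _ => Set.mem_iUnion.2 ⟨x, ht x⟩)
  let s : Fin F.card → Γ(A, ⊤) := fun i => t (F.equivFin.symm i).1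
  have hcov : ∀ x : Z, ∃ i, x ∈ gloc (s i) := fun x => by
    obtain ⟨y, hy, hxy⟩ := Set.mem_iUnion₂.1 (hF (Set.mem_univ x))
    exact ⟨F.equivFin ⟨y, hy⟩, by simpa [s] using hxy⟩
  let φ : Groth.CohC3.pw F.card (structureModule Z) ⟶ A :=
    biproduct.desc fun i => homOfSection (s i)
  haveI : Epi φ := by
    haveI : Epi (Sigma.desc fun i : ULift.{u} (Fin F.card) => homOfSection (s i.down)) :=
      epi_sigma_desc fun x => let ⟨i, hi⟩ := hcov x; ⟨⟨i⟩, hi⟩
    refine ⟨fun {W} a b hab => ?_⟩
    refine (cancel_epi (Sigma.desc fun i : ULift.{u} (Fin F.card) => homOfSection (s i.down))).1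
      (Sigma.hom_ext _ _ fun i => ?_)
    rw [Sigma.ι_desc_assoc, Sigma.ι_desc_assoc]
    have := congrArg (fun ψ => biproduct.ι (fun _ : Fin F.card => structureModule Z) i.down ≫ ψ) hab
    simpa [φ] using this
  obtain ⟨ψ, hψ⟩ := exists_epi_koszul hA s hcov φ fun i => biproduct.ι_desc _ _
  let M := CohB1.tensorPow A (m + j)
  let EA := CohB1.tensorMod (kernel φ) A
  have h0 : Subsingleton (HH Z (CohB1.tensorMod M (Groth.CohC3.pw (F.card * F.card) (structureModule Z))) 1) := by
    obtain ⟨b, -⟩ := exists_braiding M (Groth.CohC3.pw (F.card * F.card) (structureModule Z))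
    exact @Equiv.subsingleton _ _ (hEquiv k b 1).toEquiv (subsingleton_h1_tensor_pw k M hmj _)
  haveI := Groth.DegMono.epi_tensorMap M ψ
  have h1 : Subsingleton (HH Z (CohB1.tensorMod M EA) 1) :=
    subsingleton_h1_of_epi k hdim (KoszTw.tensorMap (𝟙 M) ψ) h0
  have hEM : Subsingleton (HH Z (CohB1.tensorMod (kernel φ) (CohB1.tensorPow A (m + j + 1))) 1) := by
    obtain ⟨b, -⟩ := exists_braiding M A
    obtain ⟨as, -⟩ := exists_associator (kernel φ) A M
    obtain ⟨b', -⟩ := exists_braiding EA M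
    exact @Equiv.subsingleton _ _
      (hEquiv k (PicGrp.tensorModIso (Iso.refl (kernel φ))
        (show CohB1.tensorPow A (m + j + 1) ≅ CohB1.tensorMod A M from b) ≪≫ as.symm ≪≫ b') 1).toEquiv h1
  have e : m + 1 + j = m + j + 1 := by omega
  revert z
  rw [e]
  intro z
  obtain ⟨β, hβ⟩ := exists_braiding A (CohB1.tensorPow A (m + j + 1))
  obtain ⟨c, hc⟩ := exists_tmul_decomp_of_h1 k hA (isInvertible_tensorPow hA (m + j + 1)) s hcov hEM
    (β.inv.app ⊤ z)
  refine ⟨F.card, c, s, ?_⟩
  have h := congrArg (β.hom.app ⊤) hc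
  rw [map_sum] at h
  refine ((congr(($(β.inv_hom_id)).app ⊤ z)).symm.trans h).trans ?_
  exact Finset.sum_congr rfl fun i _ => hβ _ _ _

end Field

end Groth.Curves1.Lipman
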