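import Groth.Agent.Curves1.Lipman.AlgClosed
import Groth.Agent.Limits.DegreeZero
import Groth.Agent.CohTwo.AdicUnit
import Groth.Agent.VarietyBC.FFSections
import Groth.Agent.FibreDim.BaseChange
import Groth.Agent.AdicLinTop.CoprodPush
import Groth.Agent.Curves1.RR.GlobGen
import Groth.Agent.PropsBasic.IntegralImage
import Mathlib.FieldTheory.IsAlgClosed.AlgebraicClosure

/-!
# Lipman's criterion: `H¹(O) = 0`, fibres of dimension at most one, nef
-/

set_option autoImplicit false
set_option backward.isDefEq.respectTransparency.types false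

universe u

open CategoryTheory Limits AlgebraicGeometry Coh TopologicalSpace Opposite
open Groth.EulerDeg Groth.PicAux Groth.PropsBasic.Ample

namespace Groth.Curves1.Lipman

/-- Over the spectrum of a field the fibre is the whole scheme. -/
theorem dim_fiber_field {k : Type u} [Field k] {X : Scheme.{u}} (f : X ⟶ Spec (CommRingCat.of k))
    (y : Spec (CommRingCat.of k)) : topologicalKrullDim (f.fiber y) = topologicalKrullDim X :=
  ((f.fiberHomeo y).trans ((Homeomorph.setCongr
    (Set.eq_univ_of_forall fun x => Subsingleton.elim (f x) y)).trans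
      (Homeomorph.Set.univ _))).isHomeomorph.topologicalKrullDim_eq

section Field

variable (k : Type u) [Field k] {C : Scheme.{u}} [C.Over (Spec (CommRingCat.of k))]
  [IsProper (C ↘ Spec (CommRingCat.of k))] [IsIntegral C]

/-- On an integral proper scheme of dimension at most one with `H¹(O) = 0`, nonnegative degree
gives global generation. -/
theorem gg_of_deg_nonneg (hdim : topologicalKrullDim C ≤ 1)
    (h1 : Subsingleton (HH C (structureModule C) 1)) {L : C.Modules} (hL : PicF.IsInvertible L)
    (hdeg : topologicalKrullDim C = 1 → 0 ≤ Curv2.deg k C L 1) : GG L := by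
  haveI := isNoetherian_of_proper k C
  by_cases h : topologicalKrullDim C = 1
  · haveI : Nontrivial (HH C (structureModule C) 0) :=
      ⟨(h0Equiv k _).symm (oneSec C ⊤), 0, fun h => by
        have h1 : oneSec C (⊤ : C.Opens) = 0 := by
          have := congrArg (h0Equiv k (structureModule C)) h
          rwa [LinearEquiv.apply_symm_apply, map_zero] at this
        have h2 := congrArg toFun h1
        rw [toFun_oneSec] at h2
        exact one_ne_zero (α := Γ(C, ⊤)) (h2.trans rfl)⟩
    haveI : Module.Finite k (HH C (structureModule C) 0) :=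
      finite_HH k C (isCoh_of_isInvertible (isInvertible_structureModule C)) 0
    have h0 := Module.finrank_pos (R := k) (M := HH C (structureModule C) 0)
    have hrr := riemannRoch k C hdim L
    have hg : Curv2.genus k C = 0 := Module.finrank_zero_of_subsingleton
    have hlt : Curv2.genus k C < Module.finrank k (HH C L 0) := by
      have := hdeg h
      omega
    exact fun x => Groth.VarietyBC.GGen.exists_mem_gloc hL
      (Groth.Curves1.RR.isGloballyGenerated_of_genus_lt k hdim hL hlt) x
  · intro x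
    obtain ⟨U, e, -, hxU, he⟩ := (⟨_, _, (exists_affine_gen_mem hL x).choose_spec.choose_spec⟩ :
      ∃ (U : C.Opens) (e : Γ(L, U)), IsAffineOpen U ∧ x ∈ U ∧ Gen L U e)
    haveI : Subsingleton C := by
      refine ⟨fun a b => ?_⟩
      have hzero : ∀ c : C, c = genericPoint C := fun c => by
        by_contra hc
        refine h (le_antisymm hdim ?_)
        let s₁ : IrreducibleCloseds C :=
          ⟨closure {c}, isIrreducible_singleton.closure, isClosed_closure⟩
        let s₂ : IrreducibleCloseds C := ⟨Set.univ, IrreducibleSpace.isIrreducible_univ C, isClosed_univ⟩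
        have hlt : s₁ < s₂ := by
          refine lt_of_le_of_ne (show closure {c} ⊆ Set.univ from Set.subset_univ _) fun heq => hc ?_
          have h' : IsGenericPoint c (Set.univ : Set C) := congrArg (fun t : IrreducibleCloseds C => (t : Set C)) heq
          exact h'.eq (genericPoint_spec C)
        exact Order.one_le_krullDim_iff.2 ⟨s₁, s₂, hlt⟩
      rw [hzero a, hzero b]
    have hU : U = ⊤ := eq_top_iff.2 fun y _ => Subsingleton.elim x y ▸ hxU
    subst hU
    exact ⟨e, le_gloc (V := ⊤) (by rw [res_self]; exact he) trivial⟩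

end Field

section Kernel

variable {A : Type u} [CommRing A] {X : Scheme.{u}} [X.Over (Spec (CommRingCat.of A))]

/-- If `η` is the quotient by `K`, the sum of the multiplications maps onto the kernel. -/
theorem exists_epi_kernel {K : Ideal A} {M G : X.Modules} {η : M ⟶ G} (h : Groth.CohC3.IsQuot K η) :
    ∃ φ : (∐ fun _ : K => M) ⟶ kernel η, Epi φ := by
  haveI := h.epi
  have w : Formal.smulFamily K M ≫ η = 0 := by
    refine Sigma.hom_ext _ _ fun a => ?_
    rw [Formal.smulFamily, Sigma.ι_desc_assoc, comp_zero]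
    exact (Groth.CohC3.mem_annHom η a.1).1 (h.le_ann a.2)
  obtain ⟨ψ, hψ⟩ := h.desc (cokernel.π (Formal.smulFamily K M)) fun a ha =>
    (Groth.CohC3.mem_annHom _ a).2 (by
      have h1 : Sigma.ι (fun _ : K => M) ⟨a, ha⟩ ≫ Formal.smulFamily K M = Formal.smulMod A M a :=
        Sigma.ι_desc (fun a : K => Formal.smulMod A M (a : A)) ⟨a, ha⟩
      rw [← h1, Category.assoc, cokernel.condition, comp_zero])
  have hS : (ShortComplex.mk (Formal.smulFamily K M) η w).Exact := by
    haveI : IsIso (cokernel.desc (Formal.smulFamily K M) η w) :=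
      ⟨ψ, by rw [← cancel_epi (cokernel.π (Formal.smulFamily K M)), cokernel.π_desc_assoc, hψ,
        Category.comp_id], by rw [← cancel_epi η, reassoc_of% hψ, cokernel.π_desc, Category.comp_id]⟩
    exact ShortComplex.exact_of_g_is_cokernel _ (IsColimit.ofIsoColimit (cokernelIsCokernel _)
      (Cofork.ext (asIso (cokernel.desc (Formal.smulFamily K M) η w)) (cokernel.π_desc _ _ _)))
  exact ⟨kernel.lift η _ w, hS.epi_kernelLift⟩

end Kernel

/-- Sums of modules without `H¹` have none. -/
theorem subsingleton_h1_coproduct {X : Scheme.{u}} [NoetherianSpace X] {ι : Type u} {L : X.Modules}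
    (h : Subsingleton (HH X L 1)) : Subsingleton (HH X (∐ fun _ : ι => L) 1) := by
  haveI := Groth.QCohMod.preservesColimitsOfShape_toSheaf X.ringCatSheaf (Discrete ι)
  haveI : PrespectralSpace X.toTopCat := inferInstanceAs (PrespectralSpace X)
  haveI : NoetherianSpace X.toTopCat := ‹_›
  have hc := Cofan.isColimitMapCoconeEquiv _ _ _ (isColimitOfPreserves
    (SheafOfModules.toSheaf.{u} X.ringCatSheaf) (coproductIsCoproduct (fun _ : ι => L)))
  have h2 := Groth.AdicLinTop.CoprodPush.subsingleton_HU_coproduct (X := X.toTopCat)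
    (fun _ : ι => Coh.toAb L) ⊤ 1
    (fun _ => (Groth.CohBase.equivHTop (X := X.toTopCat) (Coh.toAb L) 1).toEquiv.subsingleton_congr.1 h) hc
  exact (Groth.CohBase.equivHTop (X := X.toTopCat) _ 1).toEquiv.subsingleton_congr.2 h2

section Surj

variable {A : Type u} [CommRing A] {X : Scheme.{u}}

/-- The ideal of a fibre over a closed point is generated by the prime. -/
theorem ker_le_fibre [X.Over (Spec (CommRingCat.of A))] (P : Ideal A) {Z : Scheme.{u}} {g : Z ⟶ X}
    {s : Z ⟶ Spec (CommRingCat.of (A ⧸ P))}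
    (h : IsPullback g s (X ↘ Spec (CommRingCat.of A))
      (Spec.map (CommRingCat.ofHom (algebraMap A (A ⧸ P))))) (V : X.affineOpens) :
    g.ker.ideal V ≤ P.map (Groth.CohC3.baseApp X V.1) := by
  haveI : IsClosedImmersion (Spec.map (CommRingCat.ofHom (algebraMap A (A ⧸ P)))) :=
    IsClosedImmersion.spec_of_surjective _ Ideal.Quotient.mk_surjective
  rw [Groth.AdicLinTop.Thickenings.ker_eq_comap_of_isPullback h,
    Groth.Divisors.ideal_comap_affine _ _ ⟨⊤, isAffineOpen_top _⟩ V le_top]
  refine Ideal.map_le_iff_le_comap.2 fun x hx => ?_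
  rw [Scheme.Hom.ker_apply, RingHom.mem_ker] at hx
  obtain ⟨a, rfl⟩ : ∃ a, (Scheme.ΓSpecIso (CommRingCat.of A)).inv a = x :=
    ⟨_, Iso.hom_inv_id_apply _ x⟩
  have ha : a ∈ P := by
    have h1 := congr(($(Scheme.ΓSpecIso_inv_naturality (CommRingCat.ofHom (algebraMap A (A ⧸ P))))) a)
    have h2 := congrArg (Scheme.ΓSpecIso (CommRingCat.of (A ⧸ P))).hom (h1.trans hx)
    exact Ideal.Quotient.eq_zero_iff_mem.1
      ((Iso.inv_hom_id_apply (Scheme.ΓSpecIso (CommRingCat.of (A ⧸ P))) _).symm.trans (h2.trans (map_zero _)))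
  rw [Ideal.mem_comap]
  exact Ideal.mem_map_of_mem (Groth.CohC3.baseApp X V.1) ha

/-- With vanishing `H¹` of the kernel, global sections lift. -/
theorem exists_section_of_h1 (A : Type u) [CommRing A] [X.Over (Spec (CommRingCat.of A))]
    {S : ShortComplex X.Modules} (hS : S.ShortExact) (h : Subsingleton (HH X S.X₁ 1))
    (τ : Γ(S.X₃, ⊤)) : ∃ s : Γ(S.X₂, ⊤), S.g.app ⊤ s = τ := by
  let e (M : X.Modules) := Sheaf.H.equiv₀ (Coh.toAb M) (T := (⊤ : Opens X)) isTerminalTop
  obtain ⟨v, hv⟩ := (exact_right A hS 0 ((e S.X₃).symm τ)).1 (@Subsingleton.elim _ h _ _)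
  refine ⟨e S.X₂ v, ?_⟩
  exact (Sheaf.H.equiv₀_naturality (hT := (isTerminalTop : IsTerminal (⊤ : Opens X)))
    (f := abMap S.g) v).trans ((congrArg (e S.X₃) hv).trans ((e S.X₃).apply_symm_apply τ))

/-- The kernel of the restriction to a fibre has no `H¹`. -/
theorem subsingleton_h1_kernel (A : Type u) [CommRing A] [IsNoetherianRing A] (X : Scheme.{u})
    (f : X ⟶ Spec (CommRingCat.of A)) [IsProper f]
    (hfib : ∀ y : ↥(Spec (CommRingCat.of A)), topologicalKrullDim ↥(f.fiber y) ≤ 1)
    {ι : Type u} {L G : X.Modules} [L.IsQuasicoherent] [G.IsQuasicoherent]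
    (hH : Subsingleton (HH X L 1)) {η : L ⟶ G} (θ : (∐ fun _ : ι => L) ⟶ kernel η) (hθ : Epi θ) :
    Subsingleton (HH X (kernel η) 1) := by
  letI : X.Over (Spec (CommRingCat.of A)) := ⟨f⟩
  haveI : IsProper (X ↘ Spec (CommRingCat.of A)) := ‹IsProper f›
  haveI : IsLocallyNoetherian X := LocallyOfFiniteType.isLocallyNoetherian f
  haveI : CompactSpace X := QuasiCompact.compactSpace_of_compactSpace f
  haveI : IsNoetherian X := ⟨⟩
  haveI : (∐ fun _ : ι => L).IsQuasicoherent := inferInstance
  haveI : (kernel η).IsQuasicoherent := Groth.QCohMod.isQCoh_kernel η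
  haveI : (kernel θ).IsQuasicoherent := Groth.QCohMod.isQCoh_kernel θ
  have hsum : Subsingleton (HH X (∐ fun _ : ι => L) 1) := subsingleton_h1_coproduct hH
  have hS : (ShortComplex.mk (kernel.ι θ) θ (kernel.condition θ)).ShortExact :=
    { exact := ShortComplex.exact_of_f_is_kernel _ (kernelIsKernel θ)
      mono_f := inferInstanceAs (Mono (kernel.ι θ))
      epi_g := hθ }
  have h2 : Subsingleton (HH X (kernel θ) (1 + 1)) :=
    Groth.Limits.FibreVanishing.subsingleton_HH_of_dim_fiber_le (A := A) 1
      (fun P => by exact_mod_cast hfib P) (kernel θ) (1 + 1) (by omega)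
  refine subsingleton_of_forall_eq 0 fun y => ?_
  obtain ⟨z, rfl⟩ := (exact_right A hS 1 y).1 (@Subsingleton.elim _ h2 _ _)
  rw [@Subsingleton.elim _ hsum z 0, map_zero]

end Surj

variable (A : Type u) [CommRing A] [IsNoetherianRing A] (X : Scheme.{u}) (f : X ⟶ Spec (CommRingCat.of A))
  [IsProper f]

omit [IsNoetherianRing A] [IsProper f] in
variable {A X} in
/-- A closed subscheme over a point has dimension at most that of the fibre. -/
theorem dim_le_of_fibre (f : X ⟶ Spec (CommRingCat.of A))
    (hfib : ∀ y : ↥(Spec (CommRingCat.of A)), topologicalKrullDim ↥(f.fiber y) ≤ 1) {κ : Type u}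
    [Field κ] [Algebra A κ] (J : X.IdealSheafData) (t : J.subscheme ⟶ Spec (CommRingCat.of κ))
    (ht : t ≫ Spec.map (CommRingCat.ofHom (algebraMap A κ)) = J.subschemeι ≫ f) :
    topologicalKrullDim J.subscheme ≤ 1 := by
  obtain ⟨P, hP⟩ : ∃ P : Spec (CommRingCat.of A), ∀ z : J.subscheme, f (J.subschemeι z) = P :=
    ⟨Spec.map (CommRingCat.ofHom (algebraMap A κ)) (⟨⊥, Ideal.isPrime_bot⟩ : PrimeSpectrum κ), fun z => by
      rw [← Scheme.Hom.comp_apply, ← ht, Scheme.Hom.comp_apply]
      exact congrArg _ (Subsingleton.elim _ _)⟩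
  have hind : Topology.IsInducing fun z : J.subscheme => (f.fiberHomeo P).symm ⟨J.subschemeι z, hP z⟩ :=
    (f.fiberHomeo P).symm.isInducing.comp
      (J.subschemeι.isClosedEmbedding.isInducing.codRestrict fun z => hP z)
  exact hind.topologicalKrullDim_le.trans (hfib P)

include A in
/-- `H¹(O)` vanishes on closed subschemes over closed points. -/
theorem subsingleton_h1_of_closed (h1 : Subsingleton (HH X (structureModule X) 1))
    (hfib : ∀ y : ↥(Spec (CommRingCat.of A)), topologicalKrullDim ↥(f.fiber y) ≤ 1) (κ : Type u)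
    [Field κ] [Algebra A κ] (hsurj : Function.Surjective (algebraMap A κ)) (J : X.IdealSheafData)
    (t : J.subscheme ⟶ Spec (CommRingCat.of κ))
    (ht : t ≫ Spec.map (CommRingCat.ofHom (algebraMap A κ)) = J.subschemeι ≫ f) :
    letI : J.subscheme.Over (Spec (CommRingCat.of κ)) := ⟨t⟩
    Subsingleton (HH J.subscheme (structureModule J.subscheme) 1) := by
  letI : X.Over (Spec (CommRingCat.of A)) := ⟨f⟩
  haveI : IsProper (X ↘ Spec (CommRingCat.of A)) := ‹IsProper f›
  haveI : (structureModule X).IsQuasicoherent := Groth.QCohMod.isQCoh_unit X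
  let φ := Spec.map (CommRingCat.ofHom (algebraMap A κ))
  let Z := pullback f φ
  letI : Z.Over (Spec (CommRingCat.of κ)) := ⟨pullback.snd f φ⟩
  haveI : IsClosedImmersion φ := IsClosedImmersion.spec_of_surjective _ hsurj
  have hsq : IsPullback (pullback.fst f φ) (Z ↘ Spec (CommRingCat.of κ)) f
    (Spec.map (CommRingCat.ofHom (algebraMap A κ))) := IsPullback.of_hasPullback f φ
  haveI : IsProper (Z ↘ Spec (CommRingCat.of κ)) := MorphismProperty.of_isPullback hsq ‹_›
  haveI := isNoetherian_of_proper κ Z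
  have hd : ∀ P, topologicalKrullDim ↥((X ↘ Spec (CommRingCat.of A)).fiber P) ≤ (1 : ℕ) :=
    fun P => by exact_mod_cast hfib P
  have hdZ : topologicalKrullDim Z ≤ 1 := by
    rw [← dim_fiber_field (Z ↘ Spec (CommRingCat.of κ)) default,
      Groth.FibreDim.dim_fiber_baseChange f _ _ (pullback.fst f φ) hsq default]
    exact hfib _
  have hO : Subsingleton (HH Z (structureModule Z) 1) := by
    have h := Groth.Limits.FibreVanishing.subsingleton_HH_of_killed (A := A) 1 hd (structureModule X) hsq
      fun h => ⟨1, by simp, Subsingleton.elim _ _⟩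
    obtain ⟨e⟩ := pullback_structure_iso (pullback.fst f φ)
    exact @Equiv.subsingleton _ _ (hEquiv κ e 1).symm.toEquiv h
  letI : J.subscheme.Over (Spec (CommRingCat.of κ)) := ⟨t⟩
  let j : J.subscheme ⟶ Z := pullback.lift J.subschemeι t ht.symm
  haveI : IsClosedImmersion (j ≫ pullback.fst f φ) := by
    rw [pullback.lift_fst]; infer_instance
  haveI : IsClosedImmersion (pullback.fst f φ) := MorphismProperty.of_isPullback hsq.flip ‹_›
  haveI : IsClosedImmersion j := IsClosedImmersion.of_comp j (pullback.fst f φ)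
  exact subsingleton_h1_closed κ hdZ hO j (pullback.lift_snd _ _ _)

include A in
/-- The geometric fibres over closed points. -/
theorem fibre_good (h1 : Subsingleton (HH X (structureModule X) 1))
    (hfib : ∀ y : ↥(Spec (CommRingCat.of A)), topologicalKrullDim ↥(f.fiber y) ≤ 1)
    (L : X.Modules) (hL : PicF.IsInvertible L)
    (hcurve : ∀ (κ : Type u) [Field κ] [Algebra A κ], Function.Surjective (algebraMap A κ) →
      ∀ (J : X.IdealSheafData) (t : J.subscheme ⟶ Spec (CommRingCat.of κ)),
        AlgebraicGeometry.IsIntegral J.subscheme →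
        t ≫ Spec.map (CommRingCat.ofHom (algebraMap A κ)) = J.subschemeι ≫ f →
        GG ((Scheme.Modules.pullback J.subschemeι).obj L))
    (κ K : Type u) [Field κ] [Field K] [IsAlgClosed K] [Algebra A κ] [Algebra κ K]
    (hsurj : Function.Surjective (algebraMap A κ)) (Z : Scheme.{u}) [Z.Over (Spec (CommRingCat.of κ))]
    (g : Z ⟶ X)
    (hg : IsPullback g (Z ↘ Spec (CommRingCat.of κ)) f (Spec.map (CommRingCat.ofHom (algebraMap A κ))))
    (Z' : Scheme.{u}) [Z'.Over (Spec (CommRingCat.of K))] (g' : Z' ⟶ Z)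
    (hg' : IsPullback g' (Z' ↘ Spec (CommRingCat.of K)) (Z ↘ Spec (CommRingCat.of κ))
      (Spec.map (CommRingCat.ofHom (algebraMap κ K)))) :
    GG ((Scheme.Modules.pullback g').obj ((Scheme.Modules.pullback g).obj L)) ∧
      Subsingleton (HH Z' ((Scheme.Modules.pullback g').obj ((Scheme.Modules.pullback g).obj L)) 1) := by
  letI : X.Over (Spec (CommRingCat.of A)) := ⟨f⟩
  haveI : IsProper (X ↘ Spec (CommRingCat.of A)) := ‹IsProper f›
  haveI : IsLocallyNoetherian X := LocallyOfFiniteType.isLocallyNoetherian f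
  haveI : CompactSpace X := QuasiCompact.compactSpace_of_compactSpace f
  haveI : IsNoetherian X := ⟨⟩
  have hd : ∀ P, topologicalKrullDim ↥((X ↘ Spec (CommRingCat.of A)).fiber P) ≤ (1 : ℕ) :=
    fun P => by exact_mod_cast hfib P
  haveI : (structureModule X).IsQuasicoherent := Groth.QCohMod.isQCoh_unit X
  haveI : IsProper (Z ↘ Spec (CommRingCat.of κ)) := MorphismProperty.of_isPullback hg ‹_›
  haveI : IsProper (Z' ↘ Spec (CommRingCat.of K)) := MorphismProperty.of_isPullback hg' ‹_›
  haveI : IsClosedImmersion g := MorphismProperty.of_isPullback hg.flip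
    (IsClosedImmersion.spec_of_surjective (CommRingCat.ofHom (algebraMap A κ)) hsurj)
  haveI := isNoetherian_of_proper κ Z
  haveI := isNoetherian_of_proper K Z'
  have hdZ : topologicalKrullDim Z ≤ 1 := by
    rw [← dim_fiber_field (Z ↘ Spec (CommRingCat.of κ)) default,
      Groth.FibreDim.dim_fiber_baseChange f _ _ g hg default]
    exact hfib _
  have hdZ' : topologicalKrullDim Z' ≤ 1 := by
    rw [← dim_fiber_field (Z' ↘ Spec (CommRingCat.of K)) default,
      Groth.FibreDim.dim_fiber_baseChange (Z ↘ Spec (CommRingCat.of κ)) _ _ g' hg' default, dim_fiber_field]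
    exact hdZ
  have hO : Subsingleton (HH Z (structureModule Z) 1) := by
    have h := Groth.Limits.FibreVanishing.subsingleton_HH_of_killed (A := A) 1 hd (structureModule X) hg
      fun h => ⟨1, by simp, Subsingleton.elim _ _⟩
    obtain ⟨e⟩ := pullback_structure_iso g
    exact @Equiv.subsingleton _ _ (hEquiv κ e 1).symm.toEquiv h
  have hdZn : ∀ P, topologicalKrullDim ↥((Z ↘ Spec (CommRingCat.of κ)).fiber P) ≤ (1 : ℕ) :=
    fun P => by rw [dim_fiber_field]; exact_mod_cast hdZ
  have hO' : Subsingleton (HH Z' (structureModule Z') 1) := by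
    haveI : (structureModule Z).IsQuasicoherent := Groth.QCohMod.isQCoh_unit Z
    have h := Groth.Limits.FibreVanishing.subsingleton_HH_of_killed (A := κ) 1 hdZn (structureModule Z) hg'
      fun h => ⟨1, by simp, Subsingleton.elim _ _⟩
    obtain ⟨e⟩ := pullback_structure_iso g'
    exact @Equiv.subsingleton _ _ (hEquiv K e 1).symm.toEquiv h
  refine good_of_isAlgClosed K Z' hdZ' hO' _ (isInvertible_pullback g' (isInvertible_pullback g hL))
    fun C i _ _ => ?_
  -- the image of an integral curve
  let u : C ⟶ X := i ≫ g' ≫ g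
  haveI : CompactSpace C := QuasiCompact.compactSpace_of_compactSpace i
  haveI : QuasiCompact u := inferInstance
  let J : X.IdealSheafData := u.ker
  haveI : IsIntegral J.subscheme := Groth.PropsBasic.isIntegral_image u
  have hle : g.ker ≤ J.subschemeι.ker := by
    rw [Scheme.IdealSheafData.ker_subschemeι]
    exact Scheme.Hom.le_ker_comp (i ≫ g') g
  let j : J.subscheme ⟶ Z := IsClosedImmersion.lift g J.subschemeι hle
  have hj : j ≫ g = J.subschemeι := IsClosedImmersion.lift_fac _ _ _
  haveI : IsClosedImmersion (j ≫ g) := by rw [hj]; infer_instance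
  haveI : IsClosedImmersion j := IsClosedImmersion.of_comp j g
  letI : J.subscheme.Over (Spec (CommRingCat.of κ)) := ⟨j ≫ (Z ↘ Spec (CommRingCat.of κ))⟩
  haveI : IsProper (J.subscheme ↘ Spec (CommRingCat.of κ)) :=
    inferInstanceAs (IsProper (j ≫ (Z ↘ Spec (CommRingCat.of κ))))
  have hd0 : topologicalKrullDim J.subscheme ≤ 1 :=
    j.isClosedEmbedding.isInducing.topologicalKrullDim_le.trans hdZ
  have hgg0 : GG ((Scheme.Modules.pullback J.subschemeι).obj L) :=
    hcurve κ hsurj J (j ≫ (Z ↘ Spec (CommRingCat.of κ))) inferInstance (by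
      rw [← hj, Category.assoc, Category.assoc]
      exact congrArg (j ≫ ·) hg.w.symm)
  let v : C ⟶ J.subscheme := u.toImage
  have hv : v ≫ J.subschemeι = u := u.toImage_imageι
  exact (hgg0.pullback v (isInvertible_pullback _ hL)).of_iso
    ((Scheme.Modules.pullbackComp v J.subschemeι).app L ≪≫
      (Scheme.Modules.pullbackCongr hv).app L ≪≫
      ((Scheme.Modules.pullbackComp (i ≫ g') g).app L).symm ≪≫
      ((Scheme.Modules.pullbackComp i g').app ((Scheme.Modules.pullback g).obj L)).symm)

/-- The nef condition, in the form of global generation on integral curves in fibres. -/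
theorem gg_and_subsingleton_h1_of_curves (h1 : Subsingleton (HH X (structureModule X) 1))
    (hfib : ∀ y : ↥(Spec (CommRingCat.of A)), topologicalKrullDim ↥(f.fiber y) ≤ 1)
    (L : X.Modules) (hL : PicF.IsInvertible L)
    (hcurve : ∀ (κ : Type u) [Field κ] [Algebra A κ], Function.Surjective (algebraMap A κ) →
      ∀ (J : X.IdealSheafData) (t : J.subscheme ⟶ Spec (CommRingCat.of κ)),
        AlgebraicGeometry.IsIntegral J.subscheme →
        t ≫ Spec.map (CommRingCat.ofHom (algebraMap A κ)) = J.subschemeι ≫ f →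
        GG ((Scheme.Modules.pullback J.subschemeι).obj L)) :
    GG L ∧ Subsingleton (HH X L 1) := by
  letI : X.Over (Spec (CommRingCat.of A)) := ⟨f⟩
  haveI : IsProper (X ↘ Spec (CommRingCat.of A)) := ‹IsProper f›
  haveI : IsLocallyNoetherian X := LocallyOfFiniteType.isLocallyNoetherian f
  haveI : CompactSpace X := QuasiCompact.compactSpace_of_compactSpace f
  haveI : IsNoetherian X := ⟨⟩
  haveI : X.IsSeparated := Groth.CohFin.isSeparated_of_proper f
  have hd : ∀ P, topologicalKrullDim ↥((X ↘ Spec (CommRingCat.of A)).fiber P) ≤ (1 : ℕ) :=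
    fun P => by exact_mod_cast hfib P
  haveI : L.IsQuasicoherent := isQCoh_of_isInvertible hL
  haveI : (structureModule X).IsQuasicoherent := Groth.QCohMod.isQCoh_unit X
  -- vanishing
  have hH : Subsingleton (HH X L 1) := by
    refine subsingleton_of_forall_eq 0 fun x => ?_
    by_contra hne
    obtain ⟨P, hP, hle⟩ := Ideal.exists_le_maximal (Ideal.torsionOf A _ x)
      (by rwa [Ne, Ideal.torsionOf_eq_top_iff])
    haveI := hP
    letI := Ideal.Quotient.field P
    let κ := A ⧸ P
    let K := AlgebraicClosure κ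
    let Z := pullback f (Spec.map (CommRingCat.ofHom (algebraMap A κ)))
    letI : Z.Over (Spec (CommRingCat.of κ)) := ⟨pullback.snd _ _⟩
    let Z' := pullback (Z ↘ Spec (CommRingCat.of κ)) (Spec.map (CommRingCat.ofHom (algebraMap κ K)))
    letI : Z'.Over (Spec (CommRingCat.of K)) := ⟨pullback.snd _ _⟩
    have hsq : IsPullback (pullback.fst f (Spec.map (CommRingCat.ofHom (algebraMap A κ))))
        (Z ↘ Spec (CommRingCat.of κ)) f (Spec.map (CommRingCat.ofHom (algebraMap A κ))) :=
      IsPullback.of_hasPullback _ _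
    have hsq' := IsPullback.of_hasPullback (Z ↘ Spec (CommRingCat.of κ))
      (Spec.map (CommRingCat.ofHom (algebraMap κ K)))
    have h := (fibre_good A X f h1 hfib L hL hcurve κ K Ideal.Quotient.mk_surjective Z _ hsq Z' _ hsq').2
    let G := pullback.fst (Z ↘ Spec (CommRingCat.of κ)) (Spec.map (CommRingCat.ofHom (algebraMap κ K))) ≫
      pullback.fst f (Spec.map (CommRingCat.ofHom (algebraMap A κ)))
    have hG : Groth.CohBase.IsBC (A := A) (A' := K) G := by
      have := hsq'.paste_horiz hsq
      rwa [← Spec.map_comp, ← CommRingCat.ofHom_comp, ← IsScalarTower.algebraMap_eq] at this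
    obtain ⟨s, hs, hsx⟩ := Groth.Limits.FibreVanishing.exists_smul_eq_zero_of_fibre (A := A) 1 hd L
      (isCoh_of_isInvertible hL) K (gk := G) hG
      (@Equiv.subsingleton _ _ (hEquiv K ((Scheme.Modules.pullbackComp _ _).app L).symm 1).toEquiv h) x
    refine hs ?_
    rw [IsScalarTower.algebraMap_apply A κ K,
      show algebraMap A κ s = 0 from Ideal.Quotient.eq_zero_iff_mem.2
        (hle ((Ideal.mem_torsionOf_iff _ _).2 hsx)), map_zero]
  refine ⟨fun x₀ => ?_, hH⟩
  obtain ⟨x, hx, hxc⟩ := IsClosed.exists_closed_singleton (isClosed_closure (s := ({x₀} : Set X)))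
    ⟨x₀, subset_closure rfl⟩
  suffices ∃ t : Γ(L, ⊤), x ∈ gloc t by
    obtain ⟨t, ht⟩ := this
    exact ⟨t, (specializes_iff_mem_closure.2 hx).mem_open (gloc t).isOpen ht⟩
  have hcl : IsClosed ({f x} : Set (Spec (CommRingCat.of A))) := by
    have := f.isClosedMap _ hxc
    rwa [Set.image_singleton] at this
  haveI hP : (f x).asIdeal.IsMaximal := (PrimeSpectrum.isClosed_singleton_iff_isMaximal (f x)).1 hcl
  let P := (f x).asIdeal
  letI := Ideal.Quotient.field P
  let κ := A ⧸ P
  let K := AlgebraicClosure κ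
  let φ := Spec.map (CommRingCat.ofHom (algebraMap A κ))
  let Z := pullback f φ
  letI : Z.Over (Spec (CommRingCat.of κ)) := ⟨pullback.snd _ _⟩
  letI : Z.Over (Spec (CommRingCat.of A)) := ⟨pullback.fst f φ ≫ f⟩
  let g : Z ⟶ X := pullback.fst f φ
  have hsq : IsPullback g (pullback.snd f φ) f φ := IsPullback.of_hasPullback _ _
  haveI : IsClosedImmersion φ := IsClosedImmersion.spec_of_surjective _ Ideal.Quotient.mk_surjective
  haveI : IsClosedImmersion g := MorphismProperty.of_isPullback hsq.flip ‹_›
  let Z' := pullback (pullback.snd f φ) (Spec.map (CommRingCat.ofHom (algebraMap κ K)))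
  letI : Z'.Over (Spec (CommRingCat.of K)) := ⟨pullback.snd _ _⟩
  have hsq' := IsPullback.of_hasPullback (pullback.snd f φ)
    (Spec.map (CommRingCat.ofHom (algebraMap κ K)))
  have hgg' := (fibre_good A X f h1 hfib L hL hcurve κ K Ideal.Quotient.mk_surjective Z g hsq Z' _ hsq').1
  haveI : IsProper (pullback.snd f φ) := inferInstance
  haveI : Flat (Spec.map (CommRingCat.ofHom (algebraMap κ K))) :=
    (HasRingHomProperty.Spec_iff (P := @Flat)).2 (RingHom.flat_algebraMap_iff.2 inferInstance)
  haveI : Surjective (Spec.map (CommRingCat.ofHom (algebraMap κ K))) :=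
    ⟨fun y => ⟨default, Subsingleton.elim _ _⟩⟩
  have hspan := Groth.VarietyBC.FFSections.spansStalks_of_pullback hsq'
    ((Scheme.Modules.pullback g).obj L) (Groth.VarietyBC.GGen.spansStalks hgg'.isGloballyGenerated)
  obtain ⟨z, hz⟩ : ∃ z : Z, g z = x := by
    obtain ⟨y, hy⟩ : f x ∈ Set.range φ := by
      refine ⟨(⟨⊥, Ideal.isPrime_bot⟩ : PrimeSpectrum κ), PrimeSpectrum.ext ?_⟩
      show Ideal.comap (algebraMap A κ) ⊥ = P
      rw [← RingHom.ker_eq_comap_bot]
      exact Ideal.mk_ker
    obtain ⟨z, hz, -⟩ := Scheme.Pullback.exists_preimage_pullback x y hy.symm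
    exact ⟨z, hz⟩
  obtain ⟨U, e, hxU, he⟩ := (isInvertible_iff_exists_gen _).1 (isInvertible_pullback g hL) z
  obtain ⟨τ, -, hτ⟩ := Groth.Ega2Proj.exists_mem_gloc_of_mem_span he hxU Set.univ (c := 1)
    (by rw [Scheme.basicOpen_of_isUnit _ isUnit_one]; exact hxU)
    (by rw [Set.image_univ]; exact (hspan z).ge trivial)
  -- lift the section
  have hK : ∀ a ∈ P, Coh.toGlobal (Z ↘ Spec (CommRingCat.of A)) a = 0 := fun a ha =>
    Groth.CohTwo.toGlobal_eq_zero_of_factor (K := P) (f := pullback.snd f φ) hsq.w.symm ha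
  have hker : ∀ U : X.affineOpens, g.ker.ideal U ≤ P.map (Groth.CohC3.baseApp X U.1) :=
    fun U => ker_le_fibre P hsq U
  have hq := Groth.CohTwo.isQuot_unit (A := A) g rfl hK hker L
  obtain ⟨θ, hθ⟩ := exists_epi_kernel hq
  haveI : ((Scheme.Modules.pullback g).obj L).IsQuasicoherent := Groth.QCohMod.isQCoh_pullback_obj g L
  haveI : ((Scheme.Modules.pushforward g).obj ((Scheme.Modules.pullback g).obj L)).IsQuasicoherent :=
    Groth.QCohMod.isQCoh_pushforward (M := (Scheme.Modules.pullback g).obj L) g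
  let η : L ⟶ (Scheme.Modules.pushforward g).obj ((Scheme.Modules.pullback g).obj L) :=
    (Scheme.Modules.pullbackPushforwardAdjunction g).unit.app L
  haveI : Epi η := hq.epi
  have hK1 : Subsingleton (HH X (kernel η) 1) := subsingleton_h1_kernel A X f hfib hH θ hθ
  have hS : (ShortComplex.mk (kernel.ι η) η (kernel.condition η)).ShortExact :=
    { exact := ShortComplex.exact_of_f_is_kernel _ (kernelIsKernel η)
      mono_f := inferInstanceAs (Mono (kernel.ι η))
      epi_g := inferInstanceAs (Epi η) }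
  obtain ⟨s, hs⟩ := exists_section_of_h1 A hS hK1 (show Γ((Scheme.Modules.pushforward g).obj _, ⊤) from τ)
  refine ⟨s, hz ▸ ?_⟩
  have h2 : z ∈ gloc (show Γ((Scheme.Modules.pullback g).obj L, ⊤) from pullSec g L s) := by
    have : (show Γ((Scheme.Modules.pullback g).obj L, ⊤) from pullSec g L s) = τ := hs
    rw [this]; exact hτ
  rw [show gloc (show Γ((Scheme.Modules.pullback g).obj L, ⊤) from pullSec g L s) = g ⁻¹ᵁ gloc s from
    Groth.AmpleFinite.gloc_pullSec g hL s] at h2
  exact h2

/-- Lipman's criterion: nef gives global generation and vanishing of `H¹`. -/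
theorem gg_and_subsingleton_h1 (h1 : Subsingleton (HH X (structureModule X) 1))
    (hfib : ∀ y : ↥(Spec (CommRingCat.of A)), topologicalKrullDim ↥(f.fiber y) ≤ 1)
    (L : X.Modules) (hL : PicF.IsInvertible L)
    (hnef : ∀ (K : Type u) [Field K] (i : A →+* K) (J : X.IdealSheafData)
      (t : J.subscheme ⟶ Spec (CommRingCat.of K)),
      AlgebraicGeometry.IsIntegral J.subscheme → topologicalKrullDim ↥J.subscheme = 1 →
      t ≫ Spec.map (CommRingCat.ofHom i) = J.subschemeι ≫ f →
      0 ≤ @Curv2.deg K _ J.subscheme ⟨t⟩ ((Scheme.Modules.pullback J.subschemeι).obj L) 1) :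
    GG L ∧ Subsingleton (HH X L 1) := by
  refine gg_and_subsingleton_h1_of_curves A X f h1 hfib L hL fun κ _ _ hsurj J t hJ ht => ?_
  haveI := hJ
  letI : J.subscheme.Over (Spec (CommRingCat.of κ)) := ⟨t⟩
  haveI : IsClosedImmersion (Spec.map (CommRingCat.ofHom (algebraMap A κ))) :=
    IsClosedImmersion.spec_of_surjective _ hsurj
  haveI : IsProper (t ≫ Spec.map (CommRingCat.ofHom (algebraMap A κ))) := by rw [ht]; infer_instance
  haveI : IsProper (J.subscheme ↘ Spec (CommRingCat.of κ)) :=
    IsProper.of_comp t (Spec.map (CommRingCat.ofHom (algebraMap A κ)))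
  refine gg_of_deg_nonneg κ (dim_le_of_fibre f hfib J t ht) ?_ (isInvertible_pullback _ hL)
    fun hd1 => hnef κ (algebraMap A κ) J t inferInstance hd1 ht
  exact subsingleton_h1_of_closed A X f h1 hfib κ hsurj J t ht

end Groth.Curves1.Lipman
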