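import Groth.Agent.Curves1.Lipman.Basic
import Groth.Agent.CohTwo.CohInduction
import Groth.Agent.PicAux.Pullback

/-!
# The splitting step along two closed subschemes whose ideals multiply to zero
-/

set_option autoImplicit false
set_option backward.isDefEq.respectTransparency.types false

universe u

open CategoryTheory Limits AlgebraicGeometry Coh TopologicalSpace Opposite
open Groth.EulerDeg Groth.PicAux Groth.PropsBasic.Ample

namespace Groth.Curves1.Lipman

variable (k : Type u) [Field k] {X : Scheme.{u}} [X.Over (Spec (CommRingCat.of k))] [IsNoetherian X]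
  (hdim : topologicalKrullDim X ≤ 1)

/-- Cohomology of a direct image along a closed immersion. -/
theorem subsingleton_push_iff {Z : Scheme.{u}} [Z.Over (Spec (CommRingCat.of k))] (i : Z ⟶ X)
    [IsClosedImmersion i] (hi : i ≫ (X ↘ Spec (CommRingCat.of k)) = Z ↘ Spec (CommRingCat.of k))
    (M : Z.Modules) (n : ℕ) :
    Subsingleton (HH X ((Scheme.Modules.pushforward i).obj M) n) ↔ Subsingleton (HH Z M n) := by
  obtain ⟨e⟩ := Groth.CohC3.nonempty_linearEquiv_push_closed i (X ↘ Spec (CommRingCat.of k)) n M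
  rw [hi] at e
  exact e.toEquiv.subsingleton_congr

include k hdim in
/-- A closed subscheme inherits the vanishing of `H¹(O)`. -/
theorem subsingleton_h1_closed (h1 : Subsingleton (HH X (structureModule X) 1)) {Z : Scheme.{u}}
    [Z.Over (Spec (CommRingCat.of k))] (i : Z ⟶ X) [IsClosedImmersion i]
    (hi : i ≫ (X ↘ Spec (CommRingCat.of k)) = Z ↘ Spec (CommRingCat.of k)) :
    Subsingleton (HH Z (structureModule Z) 1) := by
  let η : structureModule X ⟶ (Scheme.Modules.pushforward i).obj
      ((Scheme.Modules.pullback i).obj (structureModule X)) :=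
    (Scheme.Modules.pullbackPushforwardAdjunction i).unit.app (structureModule X)
  haveI : (structureModule X).IsQuasicoherent := Groth.QCohMod.isQCoh_unit X
  haveI : ((Scheme.Modules.pullback i).obj (structureModule X)).IsQuasicoherent :=
    Groth.QCohMod.isQCoh_pullback_obj i _
  haveI : ((Scheme.Modules.pushforward i).obj
      ((Scheme.Modules.pullback i).obj (structureModule X))).IsQuasicoherent :=
    Groth.QCohMod.isQCoh_pushforward (M := (Scheme.Modules.pullback i).obj (structureModule X)) i
  haveI : Epi η := Groth.OmegaSheaf.epi_of_affine_cover η fun x => by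
    obtain ⟨U, hU, hx, -⟩ := exists_isAffineOpen_mem_and_subset (x := x) (U := (⊤ : X.Opens)) trivial
    exact ⟨U, hU, hx, (Groth.QCohMod.unit_closedImmersion_app i _ hU).1⟩
  have h2 := (subsingleton_push_iff k i hi _ 1).1 (subsingleton_h1_of_epi k hdim η h1)
  obtain ⟨e⟩ := pullback_structure_iso i
  exact @Equiv.subsingleton _ _ (hEquiv k e 1).symm.toEquiv h2

/-- The restriction of functions to a closed subscheme with only constant functions is surjective
on global sections. -/
theorem surjective_h0_unit {C : Scheme.{u}} [C.Over (Spec (CommRingCat.of k))] (j : C ⟶ X)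
    [IsClosedImmersion j] (hj : j ≫ (X ↘ Spec (CommRingCat.of k)) = C ↘ Spec (CommRingCat.of k))
    (hC0 : Module.finrank k (HH C (structureModule C) 0) = 1)
    (η : structureModule X ⟶ (Scheme.Modules.pushforward j).obj
      ((Scheme.Modules.pullback j).obj (structureModule X))) [Epi η] :
    Function.Surjective (hMap k η 0) := by
  obtain ⟨εC⟩ := pullback_structure_iso j
  obtain ⟨e⟩ := Groth.CohC3.nonempty_linearEquiv_push_closed j (X ↘ Spec (CommRingCat.of k)) 0
    ((Scheme.Modules.pullback j).obj (structureModule X))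
  rw [hj] at e
  have e0 := (e.trans (hEquiv k εC 0)).finrank_eq.trans hC0
  have hne : hMap k η 0 ≠ 0 := fun h0 => by
    have hη0 : η = 0 := hom_structure_ext (by
      have h := Groth.Curves1.RR.h0Equiv_hMap k η ((h0Equiv k _).symm (oneSec X ⊤))
      rw [h0, LinearMap.zero_apply, map_zero, LinearEquiv.apply_symm_apply] at h
      exact h.symm)
    have hz : IsZero ((Scheme.Modules.pushforward j).obj
        ((Scheme.Modules.pullback j).obj (structureModule X))) :=
      (IsZero.iff_id_eq_zero _).2 ((cancel_epi η).1 (by rw [Category.comp_id, comp_zero, hη0]))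
    have := Groth.FlatMor2.StratVanish.subsingleton_HH_of_isZero hz 0
    haveI : Subsingleton (Groth.CohFin.HA (X ↘ Spec (CommRingCat.of k)) _ 0) := this
    rw [Module.finrank_zero_of_subsingleton] at e0
    exact zero_ne_one e0
  obtain ⟨v, hv⟩ : ∃ v, hMap k η 0 v ≠ 0 := by
    by_contra hh
    push Not at hh
    exact hne (LinearMap.ext hh)
  intro y
  obtain ⟨c, hc⟩ := (finrank_eq_one_iff_of_nonzero' _ hv).1 e0 y
  exact ⟨c • v, by rw [map_smul, hc]⟩

/-- A kernel killed by an ideal is a direct image from the closed subscheme. -/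
theorem isIso_unit_kernel {C W : Scheme.{u}} (j : C ⟶ X) (j' : W ⟶ X) [IsClosedImmersion j]
    [IsClosedImmersion j']
    (hmul : ∀ U : X.affineOpens, j.ker.ideal U * j'.ker.ideal U = ⊥)
    (η : structureModule X ⟶ (Scheme.Modules.pushforward j).obj
      ((Scheme.Modules.pullback j).obj (structureModule X))) [(kernel η).IsQuasicoherent]
    (hη : η = (Scheme.Modules.pullbackPushforwardAdjunction j).unit.app (structureModule X)) :
    IsIso ((Scheme.Modules.pullbackPushforwardAdjunction j').unit.app (kernel η)) := by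
  refine (Groth.QCohMod.isIso_unit_closedImmersion_iff j' (kernel η)).2 fun U a ha s => ?_
  apply Groth.QCohMod.app_injective_of_mono (kernel.ι η) U.1
  rw [map_zero, Scheme.Modules.Hom.app_smul]
  set t := (kernel.ι η).app U.1 s with ht
  have h0 : η.app U.1 t = 0 := by
    rw [ht, ← ConcreteCategory.comp_apply, ← Scheme.Modules.Hom.comp_app, kernel.condition]
    rfl
  rw [hη] at h0
  haveI : (structureModule X).IsQuasicoherent := Groth.QCohMod.isQCoh_unit X
  have hmem : t ∈ j.ker.ideal U • (⊤ : Submodule Γ(X, U.1) Γ(structureModule X, U.1)) :=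
    ((Groth.QCohMod.unit_closedImmersion_app j (structureModule X) U.2).2 t).1 h0
  refine Submodule.smul_induction_on hmem (fun r hr m _ => ?_) fun x y hx hy => ?_
  · have : a * r = 0 := by
      rw [mul_comm, ← Ideal.mem_bot, ← hmul U]
      exact Ideal.mul_mem_mul hr ha
    rw [← mul_smul, this, zero_smul]
  · rw [smul_add, hx, hy, add_zero]

include k hdim in
/-- The twisted kernel has no `H¹`. -/
theorem subsingleton_h1_kernel_tensor (h1 : Subsingleton (HH X (structureModule X) 1)) {L : X.Modules}
    (hL : PicF.IsInvertible L) {C W : Scheme.{u}} [C.Over (Spec (CommRingCat.of k))]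
    [W.Over (Spec (CommRingCat.of k))] [IsNoetherian W] (j : C ⟶ X) (j' : W ⟶ X) [IsClosedImmersion j]
    [IsClosedImmersion j'] (hj : j ≫ (X ↘ Spec (CommRingCat.of k)) = C ↘ Spec (CommRingCat.of k))
    (hj' : j' ≫ (X ↘ Spec (CommRingCat.of k)) = W ↘ Spec (CommRingCat.of k))
    (hdimW : topologicalKrullDim W ≤ 1)
    (hmul : ∀ U : X.affineOpens, j.ker.ideal U * j'.ker.ideal U = ⊥)
    (hC0 : Module.finrank k (HH C (structureModule C) 0) = 1)
    (hW : GG ((Scheme.Modules.pullback j').obj L))
    (η : structureModule X ⟶ (Scheme.Modules.pushforward j).obj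
      ((Scheme.Modules.pullback j).obj (structureModule X))) [Epi η]
    [((Scheme.Modules.pushforward j).obj
      ((Scheme.Modules.pullback j).obj (structureModule X))).IsQuasicoherent]
    (hη : η = (Scheme.Modules.pullbackPushforwardAdjunction j).unit.app (structureModule X)) :
    Subsingleton (HH X (CohB1.tensorMod (kernel η) L) 1) := by
  have hS : (ShortComplex.mk (kernel.ι η) η (kernel.condition η)).ShortExact :=
    { exact := ShortComplex.exact_of_f_is_kernel _ (kernelIsKernel η)
      mono_f := inferInstanceAs (Mono (kernel.ι η))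
      epi_g := inferInstanceAs (Epi η) }
  have hg0 := surjective_h0_unit k j hj hC0 η
  have hP1 : Subsingleton (HH X (kernel η) 1) := subsingleton_of_forall_eq 0 fun p => by
    obtain ⟨d, rfl⟩ := (exact_left k hS 0 p).1 (Subsingleton.elim _ _)
    exact (exact_right k hS 0 d).2 (hg0 d)
  have hPcoh : Coh.IsCoh (kernel η) :=
    Groth.QCohMod.isCoh_kernel η (isCoh_of_isInvertible (isInvertible_structureModule X))
  haveI := hPcoh.1
  haveI := isIso_unit_kernel j j' hmul η hη
  let P' := (Scheme.Modules.pullback j').obj (kernel η)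
  haveI : P'.IsQuasicoherent := Groth.QCohMod.isQCoh_pullback_obj j' _
  let eP : kernel η ≅ (Scheme.Modules.pushforward j').obj P' :=
    asIso ((Scheme.Modules.pullbackPushforwardAdjunction j').unit.app (kernel η))
  have hP' : Subsingleton (HH W P' 1) :=
    (subsingleton_push_iff k j' hj' P' 1).1 (@Equiv.subsingleton _ _ (hEquiv k eP 1).symm.toEquiv hP1)
  obtain ⟨θ, -⟩ := Groth.PnCoh.exists_projectionFormula j' P' hL
  have h2 := (subsingleton_push_iff k j' hj' _ 1).2
    (subsingleton_h1_tensor_of_gg k hdimW P' hP' (isInvertible_pullback j' hL) hW)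
  exact @Equiv.subsingleton _ _
    (hEquiv k (PicGrp.tensorModIso eP (Iso.refl L) ≪≫ θ) 1).toEquiv h2

/-- The locus of a product with a pulled back section lies over the locus of the section. -/
theorem mem_gloc_of_tmul {C : Scheme.{u}} (j : C ⟶ X) {L : X.Modules} (hL : PicF.IsInvertible L)
    {J : C.Modules} (hJ : PicF.IsInvertible J) (a : Γ(J, ⊤)) (s : Γ(L, ⊤)) {c : C}
    (hc : c ∈ gloc (tmulSec a
      (show Γ((Scheme.Modules.pullback j).obj L, ⊤) from pullSec j L s))) : j c ∈ gloc s := by
  rw [gloc_tmulSec hJ (isInvertible_pullback j hL)] at hc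
  have h := hc.2
  rwa [show gloc (show Γ((Scheme.Modules.pullback j).obj L, ⊤) from pullSec j L s) = j ⁻¹ᵁ gloc s from
    Groth.AmpleFinite.gloc_pullSec j hL s] at h

/-- Surjectivity on `H⁰` after twisting. -/
theorem surjective_h0_tensorMap {L : X.Modules} (hL : PicF.IsInvertible L) {S : ShortComplex X.Modules}
    (hS : S.ShortExact) (h : Subsingleton (HH X (CohB1.tensorMod S.X₁ L) 1)) :
    Function.Surjective (hMap k (KoszTw.tensorMap S.g (𝟙 L)) 0) := by
  have hT := shortExact_tensorRightMod hL hS
  have h2 : Function.Surjective (hMap k (S.map (DCoh.tensorRightMod L)).g 0) := fun y =>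
    (exact_right k hT 0 y).1 (@Subsingleton.elim _ h _ _)
  have e : (S.map (DCoh.tensorRightMod L)).g = KoszTw.tensorMap S.g (𝟙 L) := KoszTw.tensorRightMod_map _ _
  rw [← e]
  exact h2

/-- Lifting of sections to a twist by a module without `H¹` kernel. -/
theorem exists_lift_twist {C : Scheme.{u}} (j : C ⟶ X) [IsClosedImmersion j] {L : X.Modules}
    (jO : C.Modules) (η : structureModule X ⟶ (Scheme.Modules.pushforward j).obj jO)
    (hsurj : Function.Surjective (hMap k (KoszTw.tensorMap η (𝟙 L)) 0))
    (θ : CohB1.tensorMod ((Scheme.Modules.pushforward j).obj jO) L ≅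
      (Scheme.Modules.pushforward j).obj (CohB1.tensorMod jO ((Scheme.Modules.pullback j).obj L)))
    (hθ : ∀ (W : X.Opens) (a : Γ((Scheme.Modules.pushforward j).obj jO, W)) (b : Γ(L, W)),
        θ.hom.app W (tmulSec a b) =
          (tmulSec (show Γ(jO, j ⁻¹ᵁ W) from a) (pullSec j L b) :
            Γ(CohB1.tensorMod jO ((Scheme.Modules.pullback j).obj L), j ⁻¹ᵁ W)))
    (σ : Γ(CohB1.tensorMod jO ((Scheme.Modules.pullback j).obj L), j ⁻¹ᵁ ⊤)) :
    ∃ s : Γ(L, ⊤), σ = tmulSec (show Γ(jO, j ⁻¹ᵁ ⊤) from η.app ⊤ (oneSec X ⊤)) (pullSec j L s) := by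
  let w : Γ(CohB1.tensorMod ((Scheme.Modules.pushforward j).obj jO) L, ⊤) := θ.inv.app ⊤ σ
  let q : CohB1.tensorMod (structureModule X) L ⟶
      CohB1.tensorMod ((Scheme.Modules.pushforward j).obj jO) L := KoszTw.tensorMap η (𝟙 L)
  have hq : ∀ (W : X.Opens) (a : Γ(structureModule X, W)) (b : Γ(L, W)),
      q.app W (tmulSec a b) = tmulSec (η.app W a) b :=
    fun W a b => KoszTw.tensorMap_tmul η (𝟙 L) W a b
  obtain ⟨v, hv⟩ := hsurj ((h0Equiv k _).symm w)
  obtain ⟨u, hu⟩ := exists_leftUnitor L
  let z := h0Equiv k (CohB1.tensorMod (structureModule X) L) v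
  have hz : q.app ⊤ z = w := by
    have h := Groth.Curves1.RR.h0Equiv_hMap k q v
    rw [hv, LinearEquiv.apply_symm_apply] at h
    exact h.symm
  have hzs : z = tmulSec (oneSec X ⊤) (u.hom.app ⊤ z) := by
    apply (ConcreteCategory.bijective_of_isIso (u.hom.app ⊤)).1
    rw [hu, toFun_oneSec, one_smul]
  refine ⟨u.hom.app ⊤ z, ?_⟩
  have h1 := congrArg (fun y => θ.hom.app ⊤ y) hz
  rw [hzs, hq, hθ] at h1
  exact (congr(($(θ.inv_hom_id)).app ⊤ σ)).symm.trans h1.symm

include k hdim in
/-- Two closed subschemes whose ideals multiply to zero: `H¹` vanishes on the whole, and sections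
lift from the one with only constant functions. -/
theorem step (h1 : Subsingleton (HH X (structureModule X) 1)) {L : X.Modules}
    (hL : PicF.IsInvertible L) {C W : Scheme.{u}} [C.Over (Spec (CommRingCat.of k))]
    [W.Over (Spec (CommRingCat.of k))] [IsNoetherian W] (j : C ⟶ X) (j' : W ⟶ X) [IsClosedImmersion j]
    [IsClosedImmersion j'] (hj : j ≫ (X ↘ Spec (CommRingCat.of k)) = C ↘ Spec (CommRingCat.of k))
    (hj' : j' ≫ (X ↘ Spec (CommRingCat.of k)) = W ↘ Spec (CommRingCat.of k))
    (hdimW : topologicalKrullDim W ≤ 1)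
    (hmul : ∀ U : X.affineOpens, j.ker.ideal U * j'.ker.ideal U = ⊥)
    (hC0 : Module.finrank k (HH C (structureModule C) 0) = 1)
    (hC : Subsingleton (HH C ((Scheme.Modules.pullback j).obj L) 1))
    (hW : GG ((Scheme.Modules.pullback j').obj L)) :
    Subsingleton (HH X L 1) ∧ ∀ (c : C) (τ : Γ((Scheme.Modules.pullback j).obj L, ⊤)),
      c ∈ gloc τ → ∃ t : Γ(L, ⊤), j c ∈ gloc t := by
  let adj := Scheme.Modules.pullbackPushforwardAdjunction j
  let O := structureModule X
  let jO := (Scheme.Modules.pullback j).obj O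
  let η : O ⟶ (Scheme.Modules.pushforward j).obj jO := adj.unit.app O
  let jL := (Scheme.Modules.pullback j).obj L
  obtain ⟨εC⟩ : Nonempty (jO ≅ structureModule C) := pullback_structure_iso j
  haveI : O.IsQuasicoherent := Groth.QCohMod.isQCoh_unit X
  haveI : jO.IsQuasicoherent := Groth.QCohMod.isQCoh_pullback_obj j _
  haveI : ((Scheme.Modules.pushforward j).obj jO).IsQuasicoherent :=
    Groth.QCohMod.isQCoh_pushforward (M := jO) j
  haveI hηe : Epi η := Groth.OmegaSheaf.epi_of_affine_cover η fun x => by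
    obtain ⟨U, hU, hx, -⟩ := exists_isAffineOpen_mem_and_subset (x := x) (U := (⊤ : X.Opens)) trivial
    exact ⟨U, hU, hx, (Groth.QCohMod.unit_closedImmersion_app j _ hU).1⟩
  let S := ShortComplex.mk (kernel.ι η) η (kernel.condition η)
  have hS : S.ShortExact :=
    { exact := ShortComplex.exact_of_f_is_kernel _ (kernelIsKernel η)
      mono_f := inferInstanceAs (Mono (kernel.ι η))
      epi_g := inferInstanceAs (Epi η) }
  have hPL : Subsingleton (HH X (CohB1.tensorMod (kernel η) L) 1) :=
    subsingleton_h1_kernel_tensor k hdim h1 hL j j' hj hj' hdimW hmul hC0 hW η rfl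
  have hT := shortExact_tensorRightMod hL hS
  obtain ⟨θ, hθ⟩ := Groth.PnCoh.exists_projectionFormula j jO hL
  obtain ⟨uC, -⟩ := exists_leftUnitor jL
  obtain ⟨u, hu⟩ := exists_leftUnitor L
  let Φ : CohB1.tensorMod jO jL ≅ jL := PicGrp.tensorModIso εC (Iso.refl jL) ≪≫ uC
  refine ⟨?_, fun c τ hτ => ?_⟩
  · have h3 : Subsingleton (HH X (CohB1.tensorMod ((Scheme.Modules.pushforward j).obj jO) L) 1) :=
      @Equiv.subsingleton _ _ (hEquiv k θ 1).toEquiv ((subsingleton_push_iff k j hj _ 1).2
        (@Equiv.subsingleton _ _ (hEquiv k Φ 1).toEquiv hC))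
    exact @Equiv.subsingleton _ _ (hEquiv k u 1).symm.toEquiv
      (Groth.FlatMor2.StratVanish.subsingleton_HH_middle hT 1 hPL h3)
  have hs0 := surjective_h0_tensorMap k hL hS hPL
  obtain ⟨s, hs⟩ := exists_lift_twist k j (L := L) jO η hs0 θ hθ (Φ.inv.app ⊤ τ)
  refine ⟨s, ?_⟩
  have hc : c ∈ gloc (Φ.inv.app ⊤ τ) := by
    rw [gloc_map Φ.inv]; exact hτ
  exact mem_gloc_of_tmul j hL (isInvertible_pullback j (isInvertible_structureModule X)) _ s
    (hs ▸ hc)

end Groth.Curves1.Lipman
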