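import Groth.Agent.Curves1.Lipman.Relative
import Groth.Agent.Chow.VeryAmplePn
import Groth.Agent.NagComp.AmpleLocus
import Groth.Agent.NagComp.Goodman
import Groth.Agent.VarietyBC.CurveDeg
import Groth.Agent.CohC3.ProperHelpers
import Groth.Agent.CohFin.Linear
import Groth.Agent.PropsBasic.AmpleExtend

/-!
# Ample is very ample when `H¹(O) = 0` and the fibres have dimension at most one
-/

set_option autoImplicit false
set_option backward.isDefEq.respectTransparency.types false

universe u

open CategoryTheory Limits AlgebraicGeometry Coh TopologicalSpace Opposite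
open Groth.EulerDeg Groth.PicAux Groth.PropsBasic.Ample

namespace Groth.Curves1.Lipman

variable (A : Type u) [CommRing A] {X : Scheme.{u}} [X.Over (Spec (CommRingCat.of A))]

theorem hMap_add_ring {M N : X.Modules} (φ ψ : M ⟶ N) (n : ℕ) (x : HH X M n) :
    hMap A (φ + ψ) n x = hMap A φ n x + hMap A ψ n x := by
  have : Groth.EulerDeg.abMap (φ + ψ) = Groth.EulerDeg.abMap φ + Groth.EulerDeg.abMap ψ := rfl
  rw [hMap_apply, hMap_apply, hMap_apply, this]
  simp only [Sheaf.H.map_apply, Abelian.Ext.mk₀_add, Abelian.Ext.comp_add]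

variable [IsNoetherianRing A] [IsProper (X ↘ Spec (CommRingCat.of A))]

include A in
/-- Finite sums of a module without `H¹`, twisted. -/
theorem subsingleton_h1_tensor_pw_ring (G : X.Modules) (h : Subsingleton (HH X G 1)) (n : ℕ) :
    Subsingleton (HH X ((DCoh.tensorRightMod G).obj (Groth.CohC3.pw n (structureModule X))) 1) := by
  let F := DCoh.tensorRightMod G
  obtain ⟨e, -⟩ := exists_leftUnitor G
  haveI h1 : Subsingleton (HH X (F.obj (structureModule X)) 1) :=
    (hEquiv A (X := X) (show F.obj (structureModule X) ≅ G from e) 1).toEquiv.subsingleton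
  refine subsingleton_of_forall_eq 0 fun z => ?_
  let ρ : (F.obj (Groth.CohC3.pw n (structureModule X)) ⟶ F.obj (Groth.CohC3.pw n (structureModule X))) →+
      HH X (F.obj (Groth.CohC3.pw n (structureModule X))) 1 :=
    AddMonoidHom.mk' (fun φ => hMap A φ 1 z) fun a b => hMap_add_ring A a b 1 z
  have hid : ρ (𝟙 _) = ∑ i : Fin n,
      ρ (F.map (biproduct.π _ i) ≫ F.map (biproduct.ι (fun _ : Fin n => structureModule X) i)) := by
    rw [← map_sum]
    congr 1
    simp_rw [← F.map_comp]
    rw [← Functor.map_sum, biproduct.total, F.map_id]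
  have hz : ρ (𝟙 _) = z := by
    show hMap A (𝟙 _) 1 z = z
    rw [hMap_id, LinearMap.id_apply]
  rw [← hz, hid]
  refine Finset.sum_eq_zero fun i _ => ?_
  show hMap A _ 1 z = 0
  rw [hMap_comp, LinearMap.comp_apply,
    Subsingleton.elim (hMap A (F.map (biproduct.π _ i)) 1 z) 0, map_zero]

variable (hfib : ∀ y : ↥(Spec (CommRingCat.of A)),
  topologicalKrullDim ↥((X ↘ Spec (CommRingCat.of A)).fiber y) ≤ 1)

include hfib in
/-- Twisting by a globally generated invertible module preserves vanishing of `H¹`, relatively. -/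
theorem subsingleton_h1_tensor_of_gg_ring (G : X.Modules) [G.IsQuasicoherent]
    (h : Subsingleton (HH X G 1)) {M : X.Modules} (hM : PicF.IsInvertible M) (hg : GG M) :
    Subsingleton (HH X (CohB1.tensorMod G M) 1) := by
  haveI : IsLocallyNoetherian X := LocallyOfFiniteType.isLocallyNoetherian (X ↘ Spec (CommRingCat.of A))
  haveI : CompactSpace X := QuasiCompact.compactSpace_of_compactSpace (X ↘ Spec (CommRingCat.of A))
  haveI : IsNoetherian X := ⟨⟩
  obtain ⟨T, hT⟩ := Groth.CohC3.exists_epi_secHom (isCoh_of_isInvertible hM) hg.isGloballyGenerated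
  obtain ⟨b, -⟩ := exists_braiding G (Groth.CohC3.pw T.card (structureModule X))
  have h0 : Subsingleton (HH X (CohB1.tensorMod G (Groth.CohC3.pw T.card (structureModule X))) 1) :=
    @Equiv.subsingleton _ _ (hEquiv A b 1).toEquiv (subsingleton_h1_tensor_pw_ring A G h T.card)
  haveI : M.IsQuasicoherent := isQCoh_of_isInvertible hM
  haveI : (structureModule X).IsQuasicoherent := Groth.QCohMod.isQCoh_unit X
  haveI : (Groth.CohC3.pw T.card (structureModule X)).IsQuasicoherent :=
    (Groth.CohC3.isCoh_pw T.card (isCoh_of_isInvertible (isInvertible_structureModule X))).1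
  haveI : (CohB1.tensorMod G (Groth.CohC3.pw T.card (structureModule X))).IsQuasicoherent :=
    Groth.QCohMod.isQCoh_tensorMod
  haveI : (CohB1.tensorMod G M).IsQuasicoherent := Groth.QCohMod.isQCoh_tensorMod
  let ψ : CohB1.tensorMod G (Groth.CohC3.pw T.card (structureModule X)) ⟶ CohB1.tensorMod G M :=
    KoszTw.tensorMap (𝟙 G) (Groth.CohC3.secHom T)
  haveI : Epi ψ := Groth.DegMono.epi_tensorMap G (Groth.CohC3.secHom T)
  haveI : (kernel ψ).IsQuasicoherent := Groth.QCohMod.isQCoh_kernel ψ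
  have hS : (ShortComplex.mk (kernel.ι ψ) ψ (kernel.condition ψ)).ShortExact :=
    { exact := ShortComplex.exact_of_f_is_kernel _ (kernelIsKernel ψ)
      mono_f := inferInstanceAs (Mono (kernel.ι ψ))
      epi_g := inferInstanceAs (Epi ψ) }
  have h2 : Subsingleton (HH X (kernel ψ) (1 + 1)) :=
    Groth.Limits.FibreVanishing.subsingleton_HH_of_dim_fiber_le (A := A) 1
      (fun P => by exact_mod_cast hfib P) (kernel ψ) (1 + 1) (by omega)
  refine subsingleton_of_forall_eq 0 fun y => ?_
  obtain ⟨z, rfl⟩ := (exact_right A hS 1 y).1 (@Subsingleton.elim _ h2 _ _)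
  rw [@Subsingleton.elim _ h0 z 0, map_zero]

omit [IsNoetherianRing A] [IsProper (X ↘ Spec (CommRingCat.of A))] in
variable (X) in
/-- A constant, as a global function. -/
noncomputable abbrev cst (a : A) : Γ(X, ⊤) := Coh.toGlobal (X ↘ Spec (CommRingCat.of A)) a

/-- Global sections of an invertible module form a finite module over the base. -/
theorem exists_generators {L : X.Modules} (hL : PicF.IsInvertible L) :
    ∃ T : Finset Γ(L, ⊤), ∀ τ : Γ(L, ⊤), ∃ a : Γ(L, ⊤) → A,
      τ = ∑ t ∈ T, cst A X (a t) • t := by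
  haveI : Module.Finite A (HH X L 0) := Groth.CohC3.finite_HH_of_proper A X (isCoh_of_isInvertible hL) 0
  classical
  obtain ⟨S, hS⟩ := (Module.Finite.fg_top : (⊤ : Submodule A (HH X L 0)).FG)
  let e : HH X L 0 ≃+ Γ(L, ⊤) := Groth.CohFin.equivSections (X ↘ Spec (CommRingCat.of A)) L
  have he : ∀ (c : A) (x : HH X L 0),
      e (c • x) = cst A X c • e x :=
    fun c x => Groth.CohFin.equivSections_smul (X ↘ Spec (CommRingCat.of A)) L c x
  refine ⟨S.image e, fun τ => ?_⟩
  have hτ : e.symm τ ∈ Submodule.span A (S : Set (HH X L 0)) := by rw [hS]; trivial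
  obtain ⟨a, -, ha⟩ := Submodule.mem_span_finset.1 hτ
  refine ⟨fun t => a (e.symm t), ?_⟩
  rw [Finset.sum_image fun x _ y _ h => e.injective h]
  have h1 := congrArg e ha
  rw [map_sum, AddEquiv.apply_symm_apply] at h1
  refine h1.symm.trans (Finset.sum_congr rfl fun x _ => ?_)
  simp only [he, AddEquiv.symm_apply_apply]

omit [IsNoetherianRing A] [IsProper (X ↘ Spec (CommRingCat.of A))] in
/-- Surjectivity on `H⁰` after twisting, relatively. -/
theorem surjective_h0_tensorMap_ring {L : X.Modules} (hL : PicF.IsInvertible L)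
    {S : ShortComplex X.Modules} (hS : S.ShortExact)
    (h : Subsingleton (HH X (CohB1.tensorMod S.X₁ L) 1)) :
    Function.Surjective (hMap A (KoszTw.tensorMap S.g (𝟙 L)) 0) := by
  have hT := shortExact_tensorRightMod hL hS
  have h2 : Function.Surjective (hMap A (S.map (DCoh.tensorRightMod L)).g 0) := fun y =>
    (exact_right A hT 0 y).1 (@Subsingleton.elim _ h _ _)
  have e : (S.map (DCoh.tensorRightMod L)).g = KoszTw.tensorMap S.g (𝟙 L) := KoszTw.tensorRightMod_map _ _
  rw [← e]
  exact h2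

omit [X.Over (Spec (CommRingCat.of A))] [IsNoetherianRing A] in
/-- Sections covering the scheme give an epimorphism from a free module. -/
theorem epi_sigma_desc {L : X.Modules} {ι : Type u} {t : ι → Γ(L, ⊤)} (hcov : ∀ x : X, ∃ i, x ∈ gloc (t i)) :
    Epi (Sigma.desc fun i => homOfSection (t i)) := by
  have hc : ⨆ i, gloc (t i) = ⊤ := eq_top_iff.2 fun x _ => Opens.mem_iSup.2 (hcov x)
  refine ⟨fun {Z} (ψ ψ' : L ⟶ Z) h => ?_⟩
  refine hom_ext_gen hc (fun i => res _ le_top (t i)) (fun i => gen_gloc (t i) le_rfl) fun i => ?_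
  have h1 : homOfSection (t i) ≫ ψ = homOfSection (t i) ≫ ψ' := by
    exact ((Sigma.ι_desc_assoc (fun i => homOfSection (t i)) i ψ).symm.trans
      (congrArg (Sigma.ι (fun _ : ι => Coh.structureModule X) i ≫ ·) h)).trans
        (Sigma.ι_desc_assoc (fun i => homOfSection (t i)) i ψ')
  have h2 := congr(($h1).app ⊤ (oneSec X ⊤))
  simp only [Scheme.Modules.Hom.comp_app, ConcreteCategory.comp_apply, homOfSection_one] at h2
  rw [app_res, app_res, h2]

omit [X.Over (Spec (CommRingCat.of A))] [IsNoetherianRing A] in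
/-- A twisted finite sum of copies of `O` decomposes. -/
theorem sum_tensorMap_biproduct (M : X.Modules) {N : ℕ} :
    𝟙 (CohB1.tensorMod (Groth.CohC3.pw N (structureModule X)) M) =
      ∑ i, KoszTw.tensorMap (biproduct.π (fun _ : Fin N => structureModule X) i) (𝟙 M) ≫
        KoszTw.tensorMap (biproduct.ι (fun _ : Fin N => structureModule X) i) (𝟙 M) := by
  simp only [← KoszTw.tensorRightMod_map]
  have h : (DCoh.tensorRightMod M).map (𝟙 (Groth.CohC3.pw N (structureModule X))) =
      ∑ i, (DCoh.tensorRightMod M).map (biproduct.π (fun _ : Fin N => structureModule X) i) ≫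
        (DCoh.tensorRightMod M).map (biproduct.ι (fun _ : Fin N => structureModule X) i) := by
    simp_rw [← Functor.map_comp]
    rw [← Functor.map_sum, biproduct.total]
  rw [CategoryTheory.Functor.map_id] at h
  exact h

include A in
/-- Sections of `L ⊗ M` are sums of products with a covering family once `H¹` of the twisted relations
vanishes. -/
theorem exists_tmul_decomp_of_h1 {L M : X.Modules} (hL : PicF.IsInvertible L) (hM : PicF.IsInvertible M)
    {N : ℕ} (s : Fin N → Γ(L, ⊤))
    (hcov : ∀ x : X, ∃ i, x ∈ gloc (s i))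
    (hEM : Subsingleton (HH X (CohB1.tensorMod (kernel (biproduct.desc fun i => homOfSection (s i) :
      Groth.CohC3.pw N (structureModule X) ⟶ L)) M) 1))
    (z : Γ(CohB1.tensorMod L M, ⊤)) :
    ∃ b : Fin N → Γ(M, ⊤), z = ∑ i, tmulSec (s i) (b i) := by
  haveI : IsLocallyNoetherian X := LocallyOfFiniteType.isLocallyNoetherian (X ↘ Spec (CommRingCat.of A))
  haveI : CompactSpace X := QuasiCompact.compactSpace_of_compactSpace (X ↘ Spec (CommRingCat.of A))
  haveI : IsNoetherian X := ⟨⟩
  let O := structureModule X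
  let P := Groth.CohC3.pw N O
  let φ : P ⟶ L := biproduct.desc fun i => homOfSection (s i)
  have hφι : ∀ i, (biproduct.ι (fun _ : Fin N => O) i ≫ φ).app ⊤ (oneSec X ⊤) = s i := fun i => by
    rw [biproduct.ι_desc, homOfSection_one]
  haveI : Epi φ := by
    haveI h : Epi (Sigma.desc fun i : ULift.{u} (Fin N) => homOfSection (s i.down)) :=
      epi_sigma_desc fun x => let ⟨i, hi⟩ := hcov x; ⟨⟨i⟩, hi⟩
    refine ⟨fun {Z} a b hab => ?_⟩
    refine (cancel_epi (Sigma.desc fun i : ULift.{u} (Fin N) => homOfSection (s i.down))).1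
      (Sigma.hom_ext _ _ fun i => ?_)
    rw [Sigma.ι_desc_assoc, Sigma.ι_desc_assoc]
    have := congrArg (fun ψ => biproduct.ι (fun _ : Fin N => O) i.down ≫ ψ) hab
    simpa [φ] using this
  haveI : L.IsQuasicoherent := isQCoh_of_isInvertible hL
  haveI : P.IsQuasicoherent :=
    (Groth.CohC3.isCoh_pw N (isCoh_of_isInvertible (isInvertible_structureModule X))).1
  haveI : (kernel φ).IsQuasicoherent := Groth.QCohMod.isQCoh_kernel φ
  have hS : (ShortComplex.mk (kernel.ι φ) φ (kernel.condition φ)).ShortExact :=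
    { exact := ShortComplex.exact_of_f_is_kernel _ (kernelIsKernel φ)
      mono_f := inferInstanceAs (Mono (kernel.ι φ))
      epi_g := inferInstanceAs (Epi φ) }
  have hsur := surjective_h0_tensorMap_ring A hM hS hEM
  let q : CohB1.tensorMod P M ⟶ CohB1.tensorMod L M := KoszTw.tensorMap φ (𝟙 M)
  obtain ⟨v, hv⟩ := hsur ((Groth.CohFin.equivSections (X ↘ Spec (CommRingCat.of A)) _).symm z)
  let w := Groth.CohFin.equivSections (X ↘ Spec (CommRingCat.of A)) (CohB1.tensorMod P M) v
  have hw : q.app ⊤ w = z := by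
    refine (Groth.CohFin.equivSections_mapL (X ↘ Spec (CommRingCat.of A)) q v).symm.trans ?_
    exact (congrArg _ hv).trans ((Groth.CohFin.equivSections (X ↘ Spec (CommRingCat.of A)) _).apply_symm_apply z)
  obtain ⟨u, hu⟩ := exists_leftUnitor M
  let π' : ∀ i, CohB1.tensorMod P M ⟶ CohB1.tensorMod O M := fun i =>
    KoszTw.tensorMap (biproduct.π (fun _ : Fin N => O) i) (𝟙 M)
  let ι' : ∀ i, CohB1.tensorMod O M ⟶ CohB1.tensorMod P M := fun i =>
    KoszTw.tensorMap (biproduct.ι (fun _ : Fin N => O) i) (𝟙 M)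
  have hone : ∀ y : Γ(CohB1.tensorMod O M, ⊤), y = tmulSec (oneSec X ⊤) (u.hom.app ⊤ y) := fun y => by
    apply (ConcreteCategory.bijective_of_isIso (u.hom.app ⊤)).1
    rw [hu, toFun_oneSec, one_smul]
  refine ⟨fun i => u.hom.app ⊤ ((π' i).app ⊤ w), ?_⟩
  have hid : 𝟙 (CohB1.tensorMod P M) = ∑ i, π' i ≫ ι' i := sum_tensorMap_biproduct M
  let ρ : (CohB1.tensorMod P M ⟶ CohB1.tensorMod P M) →+ Γ(CohB1.tensorMod L M, ⊤) :=
    AddMonoidHom.mk' (fun ψ => q.app ⊤ (ψ.app ⊤ w)) fun a b => by
      rw [Scheme.Modules.Hom.add_app]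
      exact map_add (q.app ⊤).hom _ _
  have h1 := congrArg ρ hid
  rw [map_sum] at h1
  refine hw.symm.trans (h1.trans (Finset.sum_congr rfl fun i _ => ?_))
  show q.app ⊤ ((π' i ≫ ι' i).app ⊤ w) = _
  rw [Scheme.Modules.Hom.comp_app, ConcreteCategory.comp_apply, hone ((π' i).app ⊤ w)]
  show (KoszTw.tensorMap φ (𝟙 M)).app ⊤ ((KoszTw.tensorMap (biproduct.ι (fun _ : Fin N => O) i) (𝟙 M)).app ⊤
    (tmulSec (oneSec X ⊤) (u.hom.app ⊤ ((π' i).app ⊤ w)))) = _
  refine (congrArg ((KoszTw.tensorMap φ (𝟙 M)).app ⊤)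
    (KoszTw.tensorMap_tmul (biproduct.ι (fun _ : Fin N => O) i) (𝟙 M) ⊤ (oneSec X ⊤) _)).trans ?_
  refine (KoszTw.tensorMap_tmul φ (𝟙 M) ⊤ _ _).trans ?_
  rw [← hφι i]
  rfl

include hfib in
/-- Sections of `L ⊗ M` are sums of products with a family spanning the sections of `L`. -/
theorem exists_tmul_decomp {L M : X.Modules} (hL : PicF.IsInvertible L) (hM : PicF.IsInvertible M)
    (hO : Subsingleton (HH X (structureModule X) 1)) (hM' : GG M) {N : ℕ} (s : Fin N → Γ(L, ⊤))
    (hgen : ∀ τ : Γ(L, ⊤), ∃ a : Fin N → A,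
      τ = ∑ i, cst A X (a i) • s i)
    (hcov : ∀ x : X, ∃ i, x ∈ gloc (s i)) (z : Γ(CohB1.tensorMod L M, ⊤)) :
    ∃ b : Fin N → Γ(M, ⊤), z = ∑ i, tmulSec (s i) (b i) := by
  haveI : IsLocallyNoetherian X := LocallyOfFiniteType.isLocallyNoetherian (X ↘ Spec (CommRingCat.of A))
  haveI : CompactSpace X := QuasiCompact.compactSpace_of_compactSpace (X ↘ Spec (CommRingCat.of A))
  haveI : IsNoetherian X := ⟨⟩
  let O := structureModule X
  let P := Groth.CohC3.pw N O
  let φ : P ⟶ L := biproduct.desc fun i => homOfSection (s i)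
  have hφι : ∀ i, (biproduct.ι (fun _ : Fin N => O) i ≫ φ).app ⊤ (oneSec X ⊤) = s i := fun i => by
    rw [biproduct.ι_desc, homOfSection_one]
  haveI : Epi φ := by
    haveI h : Epi (Sigma.desc fun i : ULift.{u} (Fin N) => homOfSection (s i.down)) :=
      epi_sigma_desc fun x => let ⟨i, hi⟩ := hcov x; ⟨⟨i⟩, hi⟩
    refine ⟨fun {Z} a b hab => ?_⟩
    refine (cancel_epi (Sigma.desc fun i : ULift.{u} (Fin N) => homOfSection (s i.down))).1
      (Sigma.hom_ext _ _ fun i => ?_)
    rw [Sigma.ι_desc_assoc, Sigma.ι_desc_assoc]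
    have := congrArg (fun ψ => biproduct.ι (fun _ : Fin N => O) i.down ≫ ψ) hab
    simpa [φ] using this
  haveI : L.IsQuasicoherent := isQCoh_of_isInvertible hL
  haveI : P.IsQuasicoherent :=
    (Groth.CohC3.isCoh_pw N (isCoh_of_isInvertible (isInvertible_structureModule X))).1
  haveI : (kernel φ).IsQuasicoherent := Groth.QCohMod.isQCoh_kernel φ
  have hS : (ShortComplex.mk (kernel.ι φ) φ (kernel.condition φ)).ShortExact :=
    { exact := ShortComplex.exact_of_f_is_kernel _ (kernelIsKernel φ)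
      mono_f := inferInstanceAs (Mono (kernel.ι φ))
      epi_g := inferInstanceAs (Epi φ) }
  -- `H¹` of the relations vanishes
  have hE : Subsingleton (HH X (kernel φ) 1) := by
    have hP : Subsingleton (HH X P 1) := by
      have h := subsingleton_h1_tensor_pw_ring A O hO N
      obtain ⟨b, -⟩ := exists_braiding P O
      obtain ⟨u, -⟩ := exists_leftUnitor P
      exact @Equiv.subsingleton _ _ (hEquiv A (u.symm) 1).toEquiv
        (@Equiv.subsingleton _ _ (hEquiv A b 1).symm.toEquiv h)
    refine subsingleton_of_forall_eq 0 fun p => ?_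
    obtain ⟨d, rfl⟩ := (exact_left A hS 0 p).1 (@Subsingleton.elim _ hP _ _)
    refine (exact_right A hS 0 d).2 ?_
    let eL := Groth.CohFin.equivSections (X ↘ Spec (CommRingCat.of A)) L
    let eP := Groth.CohFin.equivSections (X ↘ Spec (CommRingCat.of A)) P
    obtain ⟨a, ha⟩ := hgen (eL d)
    refine ⟨eP.symm (∑ i, cst A X (a i) •
      (biproduct.ι (fun _ : Fin N => O) i).app ⊤ (oneSec X ⊤)), eL.injective ?_⟩
    refine (Groth.CohFin.equivSections_mapL (X ↘ Spec (CommRingCat.of A)) φ _).trans ?_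
    rw [AddEquiv.apply_symm_apply, map_sum, ha]
    refine Finset.sum_congr rfl fun i _ => ?_
    rw [Scheme.Modules.Hom.app_smul, ← hφι i]
    rfl
  have hEM := subsingleton_h1_tensor_of_gg_ring A hfib (kernel φ) hE hM hM'
  exact exists_tmul_decomp_of_h1 A hL hM s hcov hEM z

include hfib in
/-- Coefficients of sections of the powers lie in the subring generated by the coefficients in
degree one. -/
theorem mem_of_power {L : X.Modules} (hL : PicF.IsInvertible L)
    (hO : Subsingleton (HH X (structureModule X) 1)) (hgg : GG L) {N : ℕ} (s : Fin N → Γ(L, ⊤))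
    (hgen : ∀ τ : Γ(L, ⊤), ∃ a : Fin N → A, τ = ∑ i, cst A X (a i) • s i)
    (hcov : ∀ x : X, ∃ i, x ∈ gloc (s i)) {W : X.Opens} {σ : Γ(L, ⊤)}
    (hσ : Gen L W (res L le_top σ)) (S : Subring Γ(X, W))
    (hA : ∀ a : A, resX X le_top (cst A X a) ∈ S)
    (hS : ∀ i g, res L (le_top : W ≤ ⊤) (s i) = g • res L (le_top : W ≤ ⊤) σ → g ∈ S) :
    ∀ (n : ℕ) (b : Γ(CohB1.tensorPow L n, ⊤)) (g : Γ(X, W)),
      res _ (le_top : W ≤ ⊤) b = g • powSec (res L (le_top : W ≤ ⊤) σ) n → g ∈ S := by
  have hdeg1 : ∀ (τ : Γ(L, ⊤)) (g : Γ(X, W)),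
      res L (le_top : W ≤ ⊤) τ = g • res L (le_top : W ≤ ⊤) σ → g ∈ S := by
    intro τ g hg
    obtain ⟨a, ha⟩ := hgen τ
    choose c hc using fun i => hσ.exists_coeff le_rfl (res L (le_top : W ≤ ⊤) (s i))
    have h1 : g = ∑ i, resX X le_top (cst A X (a i)) * c i := by
      refine hσ.smul_inj le_rfl ?_
      rw [res_self, ← hg, ha, res_sum, Finset.sum_smul]
      refine Finset.sum_congr rfl fun i _ => ?_
      have h2 := hc i
      rw [res_self] at h2
      rw [res_smul, h2, mul_smul]
    rw [h1]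
    exact Subring.sum_mem S fun i _ => S.mul_mem (hA _) (hS i _ (by
      have h2 := hc i
      rwa [res_self] at h2))
  intro n
  induction n with
  | zero =>
    intro b g hg
    have hg' : g = resX X le_top (toFun b) := by
      have hg0 : res (structureModule X) (le_top : W ≤ ⊤) (show Γ(structureModule X, ⊤) from b) =
          g • oneSec X W := hg
      have h := congrArg toFun hg0
      rw [toFun_res, toFun_smul, toFun_oneSec, mul_one] at h
      exact h.symm
    refine hdeg1 ((toFun b : Γ(X, ⊤)) • σ) g ?_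
    rw [res_smul, hg']
  | succ n ih =>
    intro b g hg
    obtain ⟨β, hβ⟩ := exists_braiding L (CohB1.tensorPow L n)
    have hP := isInvertible_tensorPow hL n
    have hgn : GG (CohB1.tensorPow L n) := fun x => by
      obtain ⟨t, ht⟩ := hgg x
      rcases Nat.eq_zero_or_pos n with rfl | hn
      · exact ⟨oneSec X ⊤, le_gloc (V := ⊤) (by rw [res_self]; exact gen_oneSec ⊤) trivial⟩
      · exact ⟨powSec t n, by rw [gloc_powSec hL t hn]; exact ht⟩
    obtain ⟨c, hc⟩ := exists_tmul_decomp A hfib hL hP hO hgn s hgen hcov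
      ((β.inv.app ⊤ (b : Γ(CohB1.tensorMod (CohB1.tensorPow L n) L, ⊤)) : Γ(CohB1.tensorMod L (CohB1.tensorPow L n), ⊤)))
    have hb : (b : Γ(CohB1.tensorMod (CohB1.tensorPow L n) L, ⊤)) = ∑ i, tmulSec (c i) (s i) := by
      have h1 := congrArg (β.hom.app ⊤) hc
      rw [map_sum] at h1
      refine ((congr(($(β.inv_hom_id)).app ⊤ (b : Γ(CohB1.tensorMod (CohB1.tensorPow L n) L, ⊤)))).symm.trans h1).trans ?_
      exact Finset.sum_congr rfl fun i _ => hβ _ _ _
    have hσn := hσ.pow n
    choose d hd using fun i => hσn.exists_coeff le_rfl (res _ (le_top : W ≤ ⊤) (c i))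
    choose e he using fun i => hσ.exists_coeff le_rfl (res L (le_top : W ≤ ⊤) (s i))
    simp only [res_self] at hd he
    have h1 : g = ∑ i, d i * e i := by
      refine (hσn.tensor hσ).smul_inj le_rfl ?_
      rw [res_self]
      change g • powSec (res L (le_top : W ≤ ⊤) σ) (n + 1) = _
      rw [← hg, Finset.sum_smul]
      change res (CohB1.tensorMod (CohB1.tensorPow L n) L) le_top b = _
      rw [hb, res_sum]
      refine Finset.sum_congr rfl fun i _ => ?_
      rw [res_tmulSec, hd i, he i, tmulSec_smul_left, tmulSec_smul_right, mul_smul]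
    rw [h1]
    exact Subring.sum_mem S fun i _ => S.mul_mem (ih (c i) (d i) (hd i)) (hS i _ (he i))

end Groth.Curves1.Lipman

namespace Groth.Curves1.Lipman

/-- Ample is very ample. -/
theorem isRelVeryAmplePn_of_isAmple (A : Type u) [CommRing A] [IsNoetherianRing A] (X : Scheme.{u})
    (f : X ⟶ Spec (CommRingCat.of A)) [IsProper f] (h1 : Subsingleton (HH X (structureModule X) 1))
    (hfib : ∀ y : ↥(Spec (CommRingCat.of A)), topologicalKrullDim ↥(f.fiber y) ≤ 1)
    (L : X.Modules) (hA : CohB1.IsAmple L) : RelAmple.IsRelVeryAmplePn f L := by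
  classical
  letI : X.Over (Spec (CommRingCat.of A)) := ⟨f⟩
  haveI : IsProper (X ↘ Spec (CommRingCat.of A)) := ‹IsProper f›
  haveI : CompactSpace X := QuasiCompact.compactSpace_of_compactSpace f
  haveI : X.IsSeparated := Groth.CohFin.isSeparated_of_proper f
  obtain ⟨hgg, -⟩ := gg_and_subsingleton_h1 A X f h1 hfib L hA.1 fun K _ i J t hJ hdim ht => by
    haveI := hJ
    letI : J.subscheme.Over (Spec (CommRingCat.of K)) := ⟨t⟩
    haveI : IsProper (t ≫ Spec.map (CommRingCat.ofHom i)) := by rw [ht]; infer_instance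
    haveI : IsProper (J.subscheme ↘ Spec (CommRingCat.of K)) :=
      IsProper.of_comp t (Spec.map (CommRingCat.ofHom i))
    exact le_of_lt ((Groth.VarietyBC.CurveDeg.isAmple_iff_deg_pos K hdim
      (isInvertible_pullback J.subschemeι hA.1)).1 (Groth.Chow.isAmple_pullback_of_isAffineHom _ hA))
  choose t ht using hgg
  obtain ⟨F, hF⟩ := isCompact_univ.elim_finite_subcover (fun x => (gloc (t x) : Set X))
    (fun x => (gloc (t x)).isOpen) (fun x _ => Set.mem_iUnion.2 ⟨x, ht x⟩)
  obtain ⟨T, hT⟩ := exists_generators A hA.1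
  let U : Finset Γ(L, ⊤) := T ∪ F.image t
  let N := U.card
  let s : Fin (N + 1) → Γ(L, ⊤) := Fin.cons 0 fun i => (U.equivFin.symm i).1
  have hgen : ∀ τ : Γ(L, ⊤), ∃ a : Fin (N + 1) → A, τ = ∑ i, cst A X (a i) • s i := fun τ => by
    obtain ⟨a, ha⟩ := hT τ
    refine ⟨Fin.cons 0 fun i => if (U.equivFin.symm i).1 ∈ T then a (U.equivFin.symm i).1 else 0, ?_⟩
    rw [Fin.sum_univ_succ]
    simp only [s, Fin.cons_zero, Fin.cons_succ, smul_zero, zero_add]
    rw [← Equiv.sum_comp U.equivFin, ha]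
    simp only [Equiv.symm_apply_apply]
    rw [Finset.univ_eq_attach, Finset.sum_attach U fun x => cst A X (if x ∈ T then a x else 0) • x]
    refine (Finset.sum_congr rfl fun x hx => by rw [if_pos hx]).trans
      (Finset.sum_subset Finset.subset_union_left fun x _ hx => ?_)
    rw [if_neg hx, cst, map_zero]
    exact zero_smul _ x
  have hcov : ∀ x : X, ∃ i, x ∈ gloc (s i) := fun x => by
    obtain ⟨y, hy, hxy⟩ := Set.mem_iUnion₂.1 (hF (Set.mem_univ x))
    refine ⟨(U.equivFin ⟨t y, Finset.mem_union_right _ (Finset.mem_image_of_mem t hy)⟩).succ, ?_⟩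
    simpa [s] using hxy
  refine Groth.Chow.isRelVeryAmplePn_of_charts f s id (fun i => gloc (s i)) (fun _ => rfl)
    (fun i => Groth.NagComp.isAffineOpen_gloc_of_isAmple f hA (s i)) hcov fun i => ?_
  let S : Subring Γ(X, gloc (s i)) := Subring.closure (Set.range (f.appLE ⊤ (gloc (s i)) le_top) ∪
    {g | ∃ j, res L (le_top : gloc (s i) ≤ ⊤) (s j) = g • res L (le_top : gloc (s i) ≤ ⊤) (s i)})
  refine eq_top_iff.2 fun g _ => ?_
  obtain ⟨k, b, hb⟩ := exists_extend hA.1 (s i) g
  exact mem_of_power A hfib hA.1 h1 (fun x => ⟨t x, ht x⟩) s hgen hcov (gen_gloc (s i) le_rfl) S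
    (fun a => Subring.subset_closure (Or.inl ⟨(Scheme.ΓSpecIso (CommRingCat.of A)).inv a, rfl⟩))
    (fun j g hg => Subring.subset_closure (Or.inr ⟨j, hg⟩)) k b g hb

/-- Relatively ample is very ample. -/
theorem isRelVeryAmplePn_of_ample (A : Type u) [CommRing A] [IsNoetherianRing A] (X : Scheme.{u})
    (f : X ⟶ Spec (CommRingCat.of A)) [IsProper f] (h1 : Subsingleton (HH X (structureModule X) 1))
    (hfib : ∀ y : ↥(Spec (CommRingCat.of A)), topologicalKrullDim ↥(f.fiber y) ≤ 1)
    (L : X.Modules) (hL : RelAmple.IsRelAmple f L) : RelAmple.IsRelVeryAmplePn f L := by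
  haveI : CompactSpace X := QuasiCompact.compactSpace_of_compactSpace f
  exact isRelVeryAmplePn_of_isAmple A X f h1 hfib L (Groth.NagComp.Goodman.isAmple_of_isRelAmple_top hL)

end Groth.Curves1.Lipman
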